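import Cfsg.Agent.Lib.Linear.ShortPres.SLTwo

/-!
# Short presentations of `SL₃`: the matrices
-/

set_option autoImplicit false

namespace Cfsg.Lib.Linear.ShortPres.Three

open Matrix
open scoped MatrixGroups

variable {F : Type*} [Field F]

/-- The root element at `(1,2)`. -/
def xm (a : F) : SL(3, F) := ⟨!![1, a, 0; 0, 1, 0; 0, 0, 1], by simp [det_fin_three]⟩

/-- The root element at `(2,3)`. -/
def ym (a : F) : SL(3, F) := ⟨!![1, 0, 0; 0, 1, a; 0, 0, 1], by simp [det_fin_three]⟩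

/-- The root element at `(1,3)`. -/
def zm (a : F) : SL(3, F) := ⟨!![1, 0, a; 0, 1, 0; 0, 0, 1], by simp [det_fin_three]⟩

/-- Diagonal elements. -/
def dm (a b : Fˣ) : SL(3, F) :=
  ⟨!![(a : F), 0, 0; 0, (b : F), 0; 0, 0, (((a * b)⁻¹ : Fˣ) : F)], by
    rw [det_fin_three]; simp [← Units.val_mul, Units.mul_inv]⟩

/-- The first reflection. -/
def tm : SL(3, F) := ⟨!![0, 1, 0; -1, 0, 0; 0, 0, 1], by simp [det_fin_three]⟩

/-- The three-cycle. -/
def cm : SL(3, F) := ⟨!![0, 0, 1; -1, 0, 0; 0, -1, 0], by simp [det_fin_three]⟩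

theorem xm_coe (a : F) : (xm a : Matrix (Fin 3) (Fin 3) F) = !![1, a, 0; 0, 1, 0; 0, 0, 1] := rfl
theorem ym_coe (a : F) : (ym a : Matrix (Fin 3) (Fin 3) F) = !![1, 0, 0; 0, 1, a; 0, 0, 1] := rfl
theorem zm_coe (a : F) : (zm a : Matrix (Fin 3) (Fin 3) F) = !![1, 0, a; 0, 1, 0; 0, 0, 1] := rfl
theorem dm_coe (a b : Fˣ) : (dm a b : Matrix (Fin 3) (Fin 3) F) =
    !![(a : F), 0, 0; 0, (b : F), 0; 0, 0, (((a * b)⁻¹ : Fˣ) : F)] := rfl
theorem tm_coe : (tm (F := F) : Matrix (Fin 3) (Fin 3) F) = !![0, 1, 0; -1, 0, 0; 0, 0, 1] := rfl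
theorem cm_coe : (cm (F := F) : Matrix (Fin 3) (Fin 3) F) = !![0, 0, 1; -1, 0, 0; 0, -1, 0] := rfl

theorem xm_add (a b : F) : xm (a + b) = xm a * xm b := by
  ext i j; fin_cases i <;> fin_cases j <;>
    simp [xm_coe, Matrix.mul_apply, Fin.sum_univ_three, add_comm]

/-- The root group at `(1,2)` as a homomorphism. -/
def xmHom : Multiplicative F →* SL(3, F) :=
  MonoidHom.mk' (fun c => xm c.toAdd) fun a b => by rw [toAdd_mul, xm_add]

theorem xmHom_apply (c : F) : xmHom (Multiplicative.ofAdd c) = xm c := rfl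

theorem xm_inj {a b : F} (h : xm a = xm b) : a = b := by
  have := congrArg (fun g : SL(3, F) => (g : Matrix (Fin 3) (Fin 3) F) 0 1) h
  simpa [xm_coe] using this

theorem xm_neg (a : F) : xm (-a) = (xm a)⁻¹ := by
  refine eq_inv_of_mul_eq_one_left ?_
  rw [← xm_add, neg_add_cancel]
  ext i j; fin_cases i <;> fin_cases j <;> simp [xm_coe]

theorem dm_mul (a b a' b' : Fˣ) : dm a b * dm a' b' = dm (a * a') (b * b') := by
  ext i j; fin_cases i <;> fin_cases j <;>
    simp [dm_coe, Matrix.mul_apply, Fin.sum_univ_three]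
  ring

theorem dm_one : dm (1 : Fˣ) 1 = 1 := by
  ext i j; fin_cases i <;> fin_cases j <;> simp [dm_coe]

theorem dm_inv (a b : Fˣ) : (dm a b)⁻¹ = dm a⁻¹ b⁻¹ := by
  refine inv_eq_of_mul_eq_one_right ?_
  rw [dm_mul, mul_inv_cancel, mul_inv_cancel, dm_one]

theorem dm_pow (a b : Fˣ) (n : ℕ) : dm a b ^ n = dm (a ^ n) (b ^ n) := by
  induction n with
  | zero => simp [dm_one]
  | succ n ih => rw [pow_succ, ih, dm_mul, pow_succ, pow_succ]

theorem dm_conj_xm (a b : Fˣ) (c : F) : dm a b * xm c * (dm a b)⁻¹ = xm ((a : F) * ((b⁻¹ : Fˣ) : F) * c) := by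
  rw [mul_inv_eq_iff_eq_mul]
  ext i j; fin_cases i <;> fin_cases j <;>
    simp [dm_coe, xm_coe, Matrix.mul_apply, Fin.sum_univ_three] <;> field_simp

theorem cm_conj_dm (a b : Fˣ) : cm * dm a b * (cm)⁻¹ = dm (a * b)⁻¹ a := by
  rw [mul_inv_eq_iff_eq_mul]
  ext i j; fin_cases i <;> fin_cases j <;>
    simp [dm_coe, cm_coe, Matrix.mul_apply, Fin.sum_univ_three] <;> field_simp

theorem tm_conj_dm (a b : Fˣ) : tm * dm a b * (tm)⁻¹ = dm b a := by
  rw [mul_inv_eq_iff_eq_mul]
  ext i j; fin_cases i <;> fin_cases j <;>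
    simp [dm_coe, tm_coe, Matrix.mul_apply, Fin.sum_univ_three, mul_comm]

theorem cm_cube : cm * cm * cm = (1 : SL(3, F)) := by
  ext i j; fin_cases i <;> fin_cases j <;> simp [cm_coe, Matrix.mul_apply, Fin.sum_univ_three]

theorem tm_cm_sq : tm * cm * (tm * cm) = (1 : SL(3, F)) := by
  ext i j; fin_cases i <;> fin_cases j <;>
    simp [cm_coe, tm_coe, Matrix.mul_apply, Fin.sum_univ_three]

theorem cm_xm (a : F) : cm * xm a * (cm)⁻¹ = ym a := by
  rw [mul_inv_eq_iff_eq_mul]
  ext i j; fin_cases i <;> fin_cases j <;>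
    simp [cm_coe, xm_coe, ym_coe, Matrix.mul_apply, Fin.sum_univ_three]

theorem zm_eq (a : F) : cm * cm * tm * xm a * (cm * cm * tm)⁻¹ = zm a := by
  rw [mul_inv_eq_iff_eq_mul]
  ext i j; fin_cases i <;> fin_cases j <;>
    simp [cm_coe, tm_coe, xm_coe, zm_coe, Matrix.mul_apply, Fin.sum_univ_three]

theorem tm_braid : tm * xm 1 * (tm)⁻¹ = (xm (1 : F))⁻¹ * tm * (xm 1)⁻¹ := by
  rw [mul_inv_eq_iff_eq_mul, ← xm_neg]
  ext i j; fin_cases i <;> fin_cases j <;>
    simp [tm_coe, xm_coe, Matrix.mul_apply, Fin.sum_univ_three]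

theorem xm_ym (a b : F) : xm a * ym b = zm (a * b) * ym b * xm a := by
  ext i j; fin_cases i <;> fin_cases j <;>
    simp [xm_coe, ym_coe, zm_coe, Matrix.mul_apply, Fin.sum_univ_three]

theorem xm_zm (a b : F) : xm a * zm b = zm b * xm a := by
  ext i j; fin_cases i <;> fin_cases j <;>
    simp [xm_coe, zm_coe, Matrix.mul_apply, Fin.sum_univ_three]

theorem zm_ym (a b : F) : zm a * ym b = ym b * zm a := by
  ext i j; fin_cases i <;> fin_cases j <;>
    simp [ym_coe, zm_coe, Matrix.mul_apply, Fin.sum_univ_three, add_comm]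

theorem closure_gens {S : Subgroup SL(3, F)} (hx : ∀ a, xm a ∈ S) (ht : tm ∈ S) (hc : cm ∈ S) : S = ⊤ := by
  rw [eq_top_iff, ← Cfsg.Lib.Linear.closure_transvection_eq_top (ι := Fin 3) (F := F), Subgroup.closure_le]
  have hlo : ∀ a : F, tm * xm a * tm⁻¹ ∈ S := fun a => mul_mem (mul_mem ht (hx a)) (inv_mem ht)
  have hcj : ∀ {v : SL(3, F)}, v ∈ S → cm * v * cm⁻¹ ∈ S := fun hv => mul_mem (mul_mem hc hv) (inv_mem hc)
  rintro _ ⟨i, j, hij, a, rfl⟩
  rw [SetLike.mem_coe]
  have e12 : ∀ a : F, Matrix.SpecialLinearGroup.transvection (show (0 : Fin 3) ≠ 1 by decide) a = xm a := fun a => by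
    refine Subtype.ext ?_
    rw [Matrix.SpecialLinearGroup.transvection_coe, xm_coe]
    ext k l; fin_cases k <;> fin_cases l <;> simp [Matrix.transvection, Matrix.single]
  have e21 : ∀ a : F, Matrix.SpecialLinearGroup.transvection (show (1 : Fin 3) ≠ 0 by decide) a = tm * xm (-a) * tm⁻¹ := fun a => by
    rw [eq_mul_inv_iff_mul_eq]
    ext k l; fin_cases k <;> fin_cases l <;>
      simp [Matrix.SpecialLinearGroup.transvection_coe, xm_coe, tm_coe, Matrix.transvection, Matrix.single,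
        Matrix.mul_apply, Fin.sum_univ_three]
  have h01 : ∀ a : F, Matrix.SpecialLinearGroup.transvection (show (0 : Fin 3) ≠ 1 by decide) a ∈ S :=
    fun a => e12 a ▸ hx a
  have h10 : ∀ a : F, Matrix.SpecialLinearGroup.transvection (show (1 : Fin 3) ≠ 0 by decide) a ∈ S :=
    fun a => e21 a ▸ hlo (-a)
  have h12 : ∀ a : F, Matrix.SpecialLinearGroup.transvection (show (1 : Fin 3) ≠ 2 by decide) a ∈ S := fun a => by
    have e : Matrix.SpecialLinearGroup.transvection (show (1 : Fin 3) ≠ 2 by decide) a =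
        cm * Matrix.SpecialLinearGroup.transvection (show (0 : Fin 3) ≠ 1 by decide) a * cm⁻¹ := by
      rw [eq_mul_inv_iff_mul_eq]
      ext k l; fin_cases k <;> fin_cases l <;>
        simp [Matrix.SpecialLinearGroup.transvection_coe, cm_coe, Matrix.transvection, Matrix.single,
          Matrix.mul_apply, Fin.sum_univ_three]
    rw [e]; exact hcj (h01 a)
  have h21 : ∀ a : F, Matrix.SpecialLinearGroup.transvection (show (2 : Fin 3) ≠ 1 by decide) a ∈ S := fun a => by
    have e : Matrix.SpecialLinearGroup.transvection (show (2 : Fin 3) ≠ 1 by decide) a =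
        cm * Matrix.SpecialLinearGroup.transvection (show (1 : Fin 3) ≠ 0 by decide) a * cm⁻¹ := by
      rw [eq_mul_inv_iff_mul_eq]
      ext k l; fin_cases k <;> fin_cases l <;>
        simp [Matrix.SpecialLinearGroup.transvection_coe, cm_coe, Matrix.transvection, Matrix.single,
          Matrix.mul_apply, Fin.sum_univ_three]
    rw [e]; exact hcj (h10 a)
  have h20 : ∀ a : F, Matrix.SpecialLinearGroup.transvection (show (2 : Fin 3) ≠ 0 by decide) a ∈ S := fun a => by
    have e : Matrix.SpecialLinearGroup.transvection (show (2 : Fin 3) ≠ 0 by decide) a =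
        cm * Matrix.SpecialLinearGroup.transvection (show (1 : Fin 3) ≠ 2 by decide) (-a) * cm⁻¹ := by
      rw [eq_mul_inv_iff_mul_eq]
      ext k l; fin_cases k <;> fin_cases l <;>
        simp [Matrix.SpecialLinearGroup.transvection_coe, cm_coe, Matrix.transvection, Matrix.single,
          Matrix.mul_apply, Fin.sum_univ_three]
    rw [e]; exact hcj (h12 _)
  have h02 : ∀ a : F, Matrix.SpecialLinearGroup.transvection (show (0 : Fin 3) ≠ 2 by decide) a ∈ S := fun a => by
    have e : Matrix.SpecialLinearGroup.transvection (show (0 : Fin 3) ≠ 2 by decide) a =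
        cm * Matrix.SpecialLinearGroup.transvection (show (2 : Fin 3) ≠ 1 by decide) (-a) * cm⁻¹ := by
      rw [eq_mul_inv_iff_mul_eq]
      ext k l; fin_cases k <;> fin_cases l <;>
        simp [Matrix.SpecialLinearGroup.transvection_coe, cm_coe, Matrix.transvection, Matrix.single,
          Matrix.mul_apply, Fin.sum_univ_three]
    rw [e]; exact hcj (h21 _)
  fin_cases i <;> fin_cases j
  · exact absurd rfl hij
  · exact h01 a
  · exact h02 a
  · exact h10 a
  · exact absurd rfl hij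
  · exact h12 a
  · exact h20 a
  · exact h21 a
  · exact absurd rfl hij

end Cfsg.Lib.Linear.ShortPres.Three
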