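import Cfsg.Agent.Lib.Linear.ShortPres.Root

/-!
# Short presentations: root subgroups as images of the additive group of a field
-/

set_option autoImplicit false

namespace Cfsg.Lib.Linear.ShortPres

open Polynomial

variable {F : Type*} [Field F] [Fintype F] {p : ℕ} [Fact p.Prime] [CharP F p]
  {M : Type*} [Group M] (X : Multiplicative F →* M) {D : M} {a : F}
  (hD : ∀ c : F, D * X (Multiplicative.ofAdd c) * D⁻¹ = X (Multiplicative.ofAdd (a * c)))

include hD

theorem cj_hom (i : ℕ) : cj (X (Multiplicative.ofAdd 1)) D i = X (Multiplicative.ofAdd (a ^ i)) := by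
  induction i with
  | zero => simp [cj_zero]
  | succ i ih => rw [cj_succ, ih, hD, pow_succ']

theorem word_hom (P : (ZMod p)[X]) :
    word p (X (Multiplicative.ofAdd 1)) D P =
      X (Multiplicative.ofAdd (letI := ZMod.algebra F p; aeval a P)) := by
  letI := ZMod.algebra F p
  rw [aeval_eq_sum_range]
  unfold word
  rw [Finset.sum_eq_multiset_sum, Finset.range_val,
    show (Multiset.range (P.natDegree + 1)) = ((List.range (P.natDegree + 1) : List ℕ) : Multiset ℕ) from rfl,
    Multiset.map_coe, Multiset.sum_coe, ofAdd_list_prod, map_list_prod, List.map_map, List.map_map]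
  congr 1
  refine List.map_congr_left fun i _ => ?_
  simp only [Function.comp_apply]
  rw [cj_hom X hD, ← map_pow, ← ofAdd_nsmul, nsmul_eq_mul, Algebra.smul_def]
  congr 2
  rw [ZMod.natCast_val]
  rfl

omit hD

/-- A small orbit subgroup mapping onto a root group is a copy of the additive group. -/
theorem exists_root_iso {G : Type*} [Group G] (φ : G →* M) {u g : G}
    (hX : Function.Injective X) (hu : φ u = X (Multiplicative.ofAdd 1)) (hg : φ g = D)
    (hD : ∀ c : F, D * X (Multiplicative.ofAdd c) * D⁻¹ = X (Multiplicative.ofAdd (a * c)))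
    (hgens : Gens p a) [Finite (orb u g)] (hle : Nat.card (orb u g) ≤ Fintype.card F) :
    ∃ Xg : F → G, Set.range Xg = (orb u g : Set G) ∧ (∀ c, φ (Xg c) = X (Multiplicative.ofAdd c)) ∧
      (∀ x ∈ orb u g, ∀ y ∈ orb u g, φ x = φ y → x = y) ∧ Xg 0 = 1 ∧ Xg 1 = u ∧
      (∀ c d, Xg (c + d) = Xg c * Xg d) := by
  have hex : ∀ c : F, ∃ x ∈ orb u g, φ x = X (Multiplicative.ofAdd c) := by
    intro c
    obtain ⟨P, hP⟩ := hgens c
    exact ⟨word p u g P, word_mem_orb p u g P, by rw [map_word, hu, hg, word_hom X hD, hP]⟩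
  choose w hw hwφ using hex
  let W : F → orb u g := fun c => ⟨w c, hw c⟩
  have hWinj : Function.Injective W := fun c d hcd => by
    have : φ (w c) = φ (w d) := congrArg (fun x : orb u g => φ x) hcd
    rw [hwφ, hwφ] at this
    exact Multiplicative.ofAdd.injective (hX this)
  have hW : Function.Bijective W :=
    hWinj.bijective_of_nat_card_le (by rwa [Nat.card_eq_fintype_card (α := F)])
  have hinj : ∀ x ∈ orb u g, ∀ y ∈ orb u g, φ x = φ y → x = y := by
    intro x hx y hy e
    obtain ⟨c, hc⟩ := hW.2 ⟨x, hx⟩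
    obtain ⟨d, hd⟩ := hW.2 ⟨y, hy⟩
    have ec : w c = x := congrArg Subtype.val hc
    have ed : w d = y := congrArg Subtype.val hd
    have : X (Multiplicative.ofAdd c) = X (Multiplicative.ofAdd d) := by rw [← hwφ c, ← hwφ d, ec, ed, e]
    rw [← ec, ← ed, Multiplicative.ofAdd.injective (hX this)]
  refine ⟨w, ?_, hwφ, hinj, hinj _ (hw 0) _ (one_mem _) (by rw [hwφ, ofAdd_zero, map_one, map_one]),
    hinj _ (hw 1) _ (self_mem u g) (by rw [hwφ, hu]),
    fun c d => hinj _ (hw _) _ (mul_mem (hw c) (hw d)) (by rw [map_mul, hwφ, hwφ, hwφ, ofAdd_add, map_mul])⟩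
  ext x
  refine ⟨fun ⟨c, hc⟩ => hc ▸ hw c, fun hx => ?_⟩
  obtain ⟨c, hc⟩ := hW.2 ⟨x, hx⟩
  exact ⟨c, congrArg Subtype.val hc⟩

end Cfsg.Lib.Linear.ShortPres
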