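import Cfsg.Agent.Lib.Linear.ShortPres.SLThree.Cover
import Cfsg.Agent.Lib.Linear.ShortPres.SLThree.Mat
import Cfsg.Agent.Lib.Linear.ShortPres.SLThree.Module
import Cfsg.Agent.Lib.Linear.SLBasic

/-!
# A short presentation of `SL₃(q)`
-/

set_option autoImplicit false

namespace Cfsg.Lib.Linear.ShortPres.Three

open Polynomial
open scoped MatrixGroups

section Criterion

/-- A presentation criterion on any finite number of generators. -/
theorem present_fin {k : ℕ} {M : Type*} [Group M] [Finite M] (E : List (FreeGroup (Fin k) × FreeGroup (Fin k)))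
    (v : Fin k → M) (hE : ∀ e ∈ E, FreeGroup.lift v e.1 = FreeGroup.lift v e.2)
    (hgen : Subgroup.closure (Set.range v) = ⊤)
    (hcard : ∀ (P : Type) [Group P] (o : Fin k → P) (φ : P →* M), Subgroup.closure (Set.range o) = ⊤ →
      (∀ i, φ (o i) = v i) → (∀ e ∈ E, FreeGroup.lift o e.1 = FreeGroup.lift o e.2) →
      Finite P ∧ Nat.card P ≤ Nat.card M) :
    ∃ rels : Finset (FreeGroup (Fin k)), rels.card ≤ E.length ∧
      Nonempty (PresentedGroup (↑rels : Set (FreeGroup (Fin k))) ≃* M) := by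
  classical
  set R : Finset (FreeGroup (Fin k)) := (E.map fun e => e.1 * e.2⁻¹).toFinset with hR
  refine ⟨R, (List.toFinset_card_le _).trans (List.length_map _).le, ?_⟩
  have hrel : ∀ r ∈ (R : Set (FreeGroup (Fin k))), FreeGroup.lift v r = 1 := by
    intro r hr
    obtain ⟨e, he, rfl⟩ := List.mem_map.1 (List.mem_toFinset.1 hr)
    rw [map_mul, map_inv, hE e he, mul_inv_cancel]
  set φ := PresentedGroup.toGroup hrel
  set o := PresentedGroup.of (rels := (R : Set (FreeGroup (Fin k)))) with ho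
  have hmk : FreeGroup.lift o = PresentedGroup.mk (R : Set (FreeGroup (Fin k))) := by
    refine FreeGroup.ext_hom _ _ fun i => ?_
    simp [ho, PresentedGroup.of]
  have hrels : ∀ e ∈ E, FreeGroup.lift o e.1 = FreeGroup.lift o e.2 := by
    intro e he
    rw [hmk]
    have := PresentedGroup.one_of_mem (rels := (R : Set (FreeGroup (Fin k))))
      (x := e.1 * e.2⁻¹) (List.mem_toFinset.2 (List.mem_map.2 ⟨e, he, rfl⟩))
    rwa [map_mul, map_inv, mul_inv_eq_one] at this
  obtain ⟨hfin, hle⟩ := hcard _ o φ (PresentedGroup.closure_range_of _)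
    (fun i => PresentedGroup.toGroup.of hrel) hrels
  have hsurj : Function.Surjective φ := by
    rw [← MonoidHom.range_eq_top, eq_top_iff, ← hgen, Subgroup.closure_le]
    rintro x ⟨i, rfl⟩
    exact ⟨o i, PresentedGroup.toGroup.of hrel⟩
  haveI := hfin
  exact ⟨MulEquiv.ofBijective φ ((Nat.bijective_iff_surjective_and_card _).2
    ⟨hsurj, le_antisymm hle (Nat.card_le_card_of_surjective φ hsurj)⟩)⟩

end Criterion

/-- Exponents and polynomials of the relations. -/
structure Data (p : ℕ) where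
  l : Option ℕ
  n : ℕ
  Pn : (ZMod p)[X]
  m : ℕ
  four : Bool

section Rels

variable {G H : Type*} [Group G] [Group H]

/-- The relations, as pairs of words in four elements. -/
def rels {p : ℕ} (D : Data p) (u h t c : G) : List (G × G) :=
  [(u ^ p, 1),
   (u * cj u (c * h * c⁻¹) 1, cj u (c * h * c⁻¹) 1 * u),
   (match D.l with
    | none => (u ^ p, 1)
    | some l => ((c * h * c⁻¹) ^ l * u * ((c * h * c⁻¹) ^ l)⁻¹, cj u (c * h * c⁻¹) 1 * u)),
   (cj u (c * h * c⁻¹) D.n, word p u (c * h * c⁻¹) D.Pn),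
   (h * u * h⁻¹, cj u (c * h * c⁻¹) D.m),
   (h * (c * h * c⁻¹), c * h * c⁻¹ * h),
   (t * h * t⁻¹, h⁻¹),
   (h * (c * h * c⁻¹) * (c * c * h * (c * c)⁻¹), 1),
   (t * u * t⁻¹, u⁻¹ * t * u⁻¹),
   (c * c * c, 1),
   (t * c * (t * c), 1),
   (u * (c * u * c⁻¹), c * c * t * u * (c * c * t)⁻¹ * (c * u * c⁻¹) * u)] ++
  (if D.four then
    [(cj u (c * h * c⁻¹) 1 * (c * u * c⁻¹),
      c * c * t * cj u (c * h * c⁻¹) 1 * (c * c * t)⁻¹ * (c * u * c⁻¹) * cj u (c * h * c⁻¹) 1)]
  else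
    [(u * (c * c * t * u * (c * c * t)⁻¹), c * c * t * u * (c * c * t)⁻¹ * u),
     (c * c * t * u * (c * c * t)⁻¹ * (c * u * c⁻¹), c * u * c⁻¹ * (c * c * t * u * (c * c * t)⁻¹))])

theorem rels_length {p : ℕ} (D : Data p) (u h t c : G) : (rels D u h t c).length ≤ 14 := by
  rcases D with ⟨_ | l, n, Pn, m, _ | _⟩ <;> simp [rels]

theorem map_rels {p : ℕ} (f : G →* H) (D : Data p) (u h t c : G) :
    (rels D u h t c).map (fun e => (f e.1, f e.2)) = rels D (f u) (f h) (f t) (f c) := by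
  unfold rels
  rcases D with ⟨_ | l, n, Pn, m, _ | _⟩ <;> simp [map_cj, map_word]

end Rels

/-- The generators of the free group. -/
abbrev freeRels {p : ℕ} (D : Data p) : List (FreeGroup (Fin 4) × FreeGroup (Fin 4)) :=
  rels D (FreeGroup.of 0) (FreeGroup.of 1) (FreeGroup.of 2) (FreeGroup.of 3)

theorem lift_freeRels {p : ℕ} {G : Type*} [Group G] (D : Data p) (o : Fin 4 → G) :
    (∀ e ∈ freeRels D, FreeGroup.lift o e.1 = FreeGroup.lift o e.2) ↔
      ∀ e ∈ rels D (o 0) (o 1) (o 2) (o 3), e.1 = e.2 := by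
  have := map_rels (FreeGroup.lift o) D (FreeGroup.of 0) (FreeGroup.of 1) (FreeGroup.of 2) (FreeGroup.of 3)
  simp only [FreeGroup.lift_apply_of] at this
  rw [← this, List.forall_mem_map]

variable {F : Type*} [Field F] [Fintype F] {p : ℕ} [Fact p.Prime] [CharP F p]

/-- What the data must satisfy. -/
structure Spec (ζ : Fˣ) (D : Data p) : Prop where
  pos : 0 < D.n
  deg : D.Pn.natDegree < D.n
  small : p ^ D.n ≤ Fintype.card F
  step : (letI := ZMod.algebra F p; aeval ((ζ⁻¹ : Fˣ) : F) D.Pn) = ((ζ⁻¹ : Fˣ) : F) ^ D.n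
  torus : ((ζ⁻¹ : Fˣ) : F) ^ D.m = (ζ : F) ^ 2
  extra : (D.l = none → D.n ≤ 2) ∧ ∀ l, D.l = some l → ((ζ⁻¹ : Fˣ) : F) ^ l = ((ζ⁻¹ : Fˣ) : F) + 1
  four : D.four = true ↔ Fintype.card F = 4

theorem exists_data (ζ : Fˣ) (hgen : ∀ x : Fˣ, ∃ i : ℕ, x = ζ ^ i) : ∃ D : Data p, Spec ζ D := by
  classical
  letI := ZMod.algebra F p
  have hgen' : ∀ x : Fˣ, ∃ i : ℕ, x = ζ⁻¹ ^ i := fun x => by
    obtain ⟨i, hi⟩ := hgen x⁻¹
    exact ⟨i, by rw [inv_pow, ← hi, inv_inv]⟩
  set a := ((ζ⁻¹ : Fˣ) : F) with ha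
  obtain ⟨m, hm⟩ := hgen' (ζ ^ 2)
  have hm' : a ^ m = (ζ : F) ^ 2 := by rw [ha, ← Units.val_pow_eq_pow_val, ← hm, Units.val_pow_eq_pow_val]
  obtain ⟨n, Pn, hn, hdeg, hsmall, hstep⟩ := exists_minpoly_data (p := p) a
  by_cases h1 : a + 1 = 0
  · have haneg : a = -1 := eq_neg_of_add_eq_zero_left h1
    refine ⟨⟨none, 1, C (-1), m, decide (Fintype.card F = 4)⟩, Nat.one_pos, by simp, ?_, ?_, hm', ⟨fun _ => Nat.le_succ 1, fun l hl => by simp at hl⟩, decide_eq_true_iff⟩
    · rw [pow_one]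
      obtain ⟨k, hp, hk⟩ := FiniteField.card F p
      rw [hk]; exact Nat.le_self_pow k.ne_zero p
    · simp [← ha, haneg]
  · obtain ⟨l, hl⟩ := hgen' (Units.mk0 _ h1)
    refine ⟨⟨some l, n, Pn, m, decide (Fintype.card F = 4)⟩, hn, hdeg, hsmall, hstep, hm', ⟨fun h => by simp at h, ?_⟩, decide_eq_true_iff⟩
    intro l' hl'
    obtain rfl : l = l' := by simpa using hl'
    rw [← Units.val_pow_eq_pow_val, ← hl, Units.val_mk0]

theorem rels_sat (ζ : Fˣ) {D : Data p} (S : Spec ζ D) :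
    ∀ e ∈ rels D (xm (1 : F)) (dm ζ ζ⁻¹) tm cm, e.1 = e.2 := by
  letI := ZMod.algebra F p
  set a := ((ζ⁻¹ : Fˣ) : F) with ha
  have hg : cm * dm ζ ζ⁻¹ * cm⁻¹ = dm 1 ζ := by rw [cm_conj_dm, mul_inv_cancel, inv_one]
  have hD : ∀ c : F, dm 1 ζ * xmHom (Multiplicative.ofAdd c) * (dm 1 ζ)⁻¹ = xmHom (Multiplicative.ofAdd (a * c)) :=
    fun c => by rw [xmHom_apply, xmHom_apply, dm_conj_xm, Units.val_one, one_mul]
  have hcj : ∀ i, cj (xm (1 : F)) (dm 1 ζ) i = xm (a ^ i) := fun i => by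
    rw [← xmHom_apply, cj_hom xmHom hD, xmHom_apply]
  have hword : ∀ P : (ZMod p)[X], word p (xm (1 : F)) (dm 1 ζ) P = xm (aeval a P) := fun P => by
    rw [← xmHom_apply, word_hom xmHom hD, xmHom_apply]
  have hup : xm (1 : F) ^ p = 1 := by
    rw [← xmHom_apply, ← map_pow, ← ofAdd_nsmul, nsmul_eq_mul, CharP.cast_eq_zero, zero_mul, ofAdd_zero, map_one]
  intro e he
  simp only [rels, hg, cm_xm, zm_eq, List.mem_append, List.mem_cons, List.not_mem_nil, or_false] at he
  rcases he with (rfl | rfl | rfl | rfl | rfl | rfl | rfl | rfl | rfl | rfl | rfl | rfl) | he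
  · exact hup
  · simp only [hcj]; rw [← xm_add, ← xm_add, add_comm]
  · rcases hl : D.l with _ | l
    · exact hup
    · simp only [hcj]
      rw [dm_pow, dm_conj_xm, ← xm_add, one_pow, Units.val_one, one_mul, mul_one, pow_one, ← S.extra.2 l hl,
        ← Units.val_pow_eq_pow_val, inv_pow]
  · simp only [hcj, hword]
    rw [show aeval a D.Pn = a ^ D.n from S.step]
  · simp only [hcj]
    rw [dm_conj_xm, inv_inv, mul_one, ← pow_two, S.torus]
  · simp only [dm_mul, mul_comm]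
  · simp only
    rw [tm_conj_dm, dm_inv, inv_inv]
  · simp only
    rw [show cm * cm * dm ζ ζ⁻¹ * (cm * cm)⁻¹ = cm * (cm * dm ζ ζ⁻¹ * cm⁻¹) * cm⁻¹ by simp [mul_assoc], hg,
      cm_conj_dm, dm_mul, dm_mul, one_mul, mul_one, mul_inv_cancel, inv_mul_cancel, one_mul, ← dm_one]
  · exact tm_braid
  · exact cm_cube
  · exact tm_cm_sq
  · simp only
    have := xm_ym (1 : F) 1
    rwa [mul_one] at this
  · split at he
    · simp only [List.mem_cons, List.not_mem_nil, or_false] at he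
      subst he
      simp only [hcj, zm_eq]
      have := xm_ym (a ^ 1) 1
      rwa [mul_one] at this
    · simp only [List.mem_cons, List.not_mem_nil, or_false] at he
      rcases he with rfl | rfl
      · exact xm_zm 1 1
      · exact zm_ym 1 1

/-- The bound on an abstract group with these relations. -/
theorem bound (ζ : Fˣ) (hgen : ∀ x : Fˣ, ∃ i : ℕ, x = ζ ^ i) (hord : orderOf (ζ : F) = Fintype.card F - 1)
    {D : Data p} (S : Spec ζ D) {P : Type} [Group P] (u h t c : P) (φ : P →* SL(3, F))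
    (hgenP : Subgroup.closure ({u, h, t, c} : Set P) = ⊤) (hu : φ u = xm 1) (hh : φ h = dm ζ ζ⁻¹)
    (hc : φ c = cm) (hr : ∀ e ∈ rels D u h t c, e.1 = e.2) :
    Finite P ∧ Nat.card P ≤ Fintype.card F ^ 3 * (Fintype.card F + 1) * (Fintype.card F - 1) ^ 2 *
      (Fintype.card F ^ 2 + Fintype.card F + 1) := by
  classical
  letI := ZMod.algebra F p
  set a := ((ζ⁻¹ : Fˣ) : F) with ha
  set g := c * h * c⁻¹ with hgdef
  have hg : φ g = dm 1 ζ := by rw [map_mul, map_mul, map_inv, hh, hc, cm_conj_dm, mul_inv_cancel, inv_one]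
  simp only [rels, List.forall_mem_append, List.forall_mem_cons, ← hgdef] at hr
  obtain ⟨⟨r1, r2, r3, r4, r5, r6, r7, r8, r9, r10, r11, r12, -⟩, rlast⟩ := hr
  have hrec : cj u g D.n ∈ Subgroup.closure (cj u g '' Set.Iio D.n) := by
    have := word_mem_first (u := u) (g := g) S.deg ∅
    rw [Set.empty_union] at this
    rw [r4]; exact this
  have hcomm : ∀ i, Commute u (cj u g i) := by
    rcases hl : D.l with _ | l
    · exact commute_cj_small S.pos (S.extra.1 hl) r2 hrec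
    · rw [hl] at r3
      exact commute_cj ((Commute.refl g).pow_right l) r2 r3
  have hcard := orb_card (T := ∅) (Fact.out : p.Prime).pos S.pos r1 hcomm (by simp) (by simpa using hrec)
  haveI := hcard.1
  have hle : Nat.card (orb u g) ≤ Fintype.card F := by simpa using hcard.2.trans (by simpa using S.small)
  have hgens : Gens p a := by
    intro x
    rcases eq_or_ne x 0 with rfl | hx
    · exact ⟨0, map_zero _⟩
    obtain ⟨i, hi⟩ := hgen (Units.mk0 x hx)⁻¹
    refine ⟨Polynomial.X ^ i, ?_⟩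
    rw [map_pow, aeval_X, ha, ← Units.val_pow_eq_pow_val, inv_pow, ← hi, inv_inv, Units.val_mk0]
  have hD : ∀ x : F, dm 1 ζ * xmHom (Multiplicative.ofAdd x) * (dm 1 ζ)⁻¹ = xmHom (Multiplicative.ofAdd (a * x)) :=
    fun x => by rw [xmHom_apply, xmHom_apply, dm_conj_xm, Units.val_one, one_mul]
  obtain ⟨Xg, hrange, hXφ, hinj, -, hX1, hXadd⟩ := exists_root_iso (p := p) xmHom φ
    (fun _ _ e => Multiplicative.toAdd.injective (xm_inj e)) hu hg hD hgens hle
  have hXmem : ∀ x, Xg x ∈ orb u g := fun x => by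
    have : Xg x ∈ (orb u g : Set P) := hrange ▸ ⟨x, rfl⟩
    exact this
  have hconj : ∀ y, Commute y g → y * u * y⁻¹ ∈ orb u g → ∀ r : F,
      (∀ x, φ y * xm x * (φ y)⁻¹ = xm (r * x)) → ∀ x, y * Xg x * y⁻¹ = Xg (r * x) := by
    intro y hy hyu r hr x
    refine hinj _ (orb_closed hy hyu (hXmem x)) _ (hXmem _) ?_
    rw [map_mul, map_mul, map_inv, hXφ, hXφ, xmHom_apply, hr, xmHom_apply]
  have hhX : ∀ x, h * Xg x * h⁻¹ = Xg ((ζ : F) ^ 2 * x) :=
    hconj h r6 (r5 ▸ cj_mem u g D.m) _ fun x => by rw [hh, dm_conj_xm, inv_inv, pow_two]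
  have hgX : ∀ x, g * Xg x * g⁻¹ = Xg (a * x) :=
    hconj g (Commute.refl g) (by simpa [cj] using cj_mem u g 1) _
      fun x => by rw [hg, dm_conj_xm, Units.val_one, one_mul]
  let S' : Frame F P :=
    { u := u, h := h, t := t, c := c, X := Xg, ζ := ζ, gen := hgenP, X_add := hXadd, X_one := hX1, comm := r6,
      tht := r7, prod := r8, braid := r9, cube := r10, tc := r11, hX := hhX, gX := hgX }
  have hY1 : S'.Y 1 = c * u * c⁻¹ := by show c * Xg 1 * c⁻¹ = _; rw [hX1]
  have hZ1 : S'.Z 1 = c * c * t * u * (c * c * t)⁻¹ := by show c * c * t * Xg 1 * _ = _; rw [hX1]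
  have he : S'.X 1 * S'.Y 1 = S'.Z 1 * S'.Y 1 * S'.X 1 := by
    rw [hY1, hZ1]; show Xg 1 * _ = _ * _ * Xg 1; rw [hX1]; exact r12
  have hfull : S'.Full := by
    by_cases h4 : Fintype.card F = 4
    · rw [if_pos (S.four.2 h4)] at rlast
      simp only [List.forall_mem_cons] at rlast
      have h2 : (2 : F) = 0 := by
        have : ((Fintype.card F : ℕ) : F) = 0 := FiniteField.cast_card_eq_zero F
        rw [h4] at this
        have h22 : (2 : F) * 2 = 0 := by
          rw [← this]; norm_num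
        exact mul_self_eq_zero.1 h22
      have hz3 : (ζ : F) ^ 3 = 1 := by
        have := FiniteField.pow_card_sub_one_eq_one (ζ : F) ζ.ne_zero
        rwa [h4] at this
      have hz1 : (ζ : F) ≠ 1 := by
        intro h1
        rw [h1, orderOf_one, h4] at hord
        omega
      have hq : (ζ : F) ^ 2 + (ζ : F) + 1 = 0 := by
        have : ((ζ : F) - 1) * ((ζ : F) ^ 2 + (ζ : F) + 1) = 0 := by linear_combination hz3
        exact (mul_eq_zero.1 this).resolve_left (sub_ne_zero.2 hz1)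
      refine S'.full_of_four h2 hgen hq he ?_
      have hA : Xg ((ζ : F) ^ 2) = cj u g 1 := by
        have e1 : a = (ζ : F) ^ 2 := by
          rw [ha, Units.val_inv_eq_inv_val, inv_eq_of_mul_eq_one_right]
          rw [← pow_succ', hz3]
        have := hgX 1
        rw [hX1, mul_one] at this
        rw [← e1, ← this]; simp [cj]
      rw [hY1]
      show Xg ((ζ : F) ^ 2) * _ = c * c * t * Xg ((ζ : F) ^ 2) * (c * c * t)⁻¹ * _ * Xg ((ζ : F) ^ 2)
      rw [hA]; exact rlast.1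
    · rw [if_neg (fun h => h4 (S.four.1 h))] at rlast
      simp only [List.forall_mem_cons] at rlast
      refine S'.full_of_gens hgen (gens_cube hord h4) he ?_ ?_
      · rw [hZ1]; show Commute (Xg 1) _; rw [hX1]; exact rlast.1
      · rw [hY1, hZ1]; exact rlast.2.1
  exact S'.card_le p hgen hfull

/-- A presentation of `SL₃(q)` with four generators and at most fourteen relations. -/
theorem present_SL_three (p : ℕ) [Fact p.Prime] [CharP F p] :
    ∃ rels : Finset (FreeGroup (Fin 4)), rels.card ≤ 14 ∧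
      Nonempty (PresentedGroup (↑rels : Set (FreeGroup (Fin 4))) ≃* SL(3, F)) := by
  classical
  obtain ⟨ζ, hζ⟩ := IsCyclic.exists_generator (α := Fˣ)
  have hgen : ∀ x : Fˣ, ∃ i : ℕ, x = ζ ^ i := fun x => by
    obtain ⟨i, hi⟩ := mem_powers_iff_mem_zpowers.2 (hζ x)
    exact ⟨i, hi.symm⟩
  have hord : orderOf (ζ : F) = Fintype.card F - 1 := by
    rw [orderOf_units, orderOf_eq_card_of_forall_mem_zpowers hζ, Nat.card_units, Nat.card_eq_fintype_card]
  obtain ⟨D, S⟩ := exists_data (p := p) ζ hgen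
  refine Exists.imp (fun rs h => ⟨h.1.trans (rels_length D _ _ _ _), h.2⟩)
    (present_fin (freeRels D) ![xm (1 : F), dm ζ ζ⁻¹, tm, cm] ((lift_freeRels D _).2 (rels_sat ζ S)) ?_ ?_)
  · set W := Subgroup.closure (Set.range ![xm (1 : F), dm ζ ζ⁻¹, tm, cm]) with hW
    have hu : xm (1 : F) ∈ W := Subgroup.subset_closure ⟨0, rfl⟩
    have hh : dm ζ ζ⁻¹ ∈ W := Subgroup.subset_closure ⟨1, rfl⟩
    have hc : (cm : SL(3, F)) ∈ W := Subgroup.subset_closure ⟨3, rfl⟩
    have hg : dm (1 : Fˣ) ζ ∈ W := by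
      have := mul_mem (mul_mem hc hh) (inv_mem hc)
      rwa [cm_conj_dm, mul_inv_cancel, inv_one] at this
    refine closure_gens (fun a => ?_) (Subgroup.subset_closure ⟨2, rfl⟩) hc
    rcases eq_or_ne a 0 with rfl | ha
    · have : xm (0 : F) = 1 := map_one (xmHom (F := F))
      rw [this]; exact one_mem _
    obtain ⟨i, hi⟩ := hgen (Units.mk0 a ha)⁻¹
    have := mul_mem (mul_mem (pow_mem hg i) hu) (inv_mem (pow_mem hg i))
    rwa [dm_pow, dm_conj_xm, one_pow, Units.val_one, one_mul, mul_one, ← hi, inv_inv, Units.val_mk0] at this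
  · intro P _ o φ hgenP hφ hr
    have hgenP' : Subgroup.closure ({o 0, o 1, o 2, o 3} : Set P) = ⊤ := by
      rw [eq_top_iff, ← hgenP, Subgroup.closure_le]
      rintro _ ⟨i, rfl⟩
      refine Subgroup.subset_closure ?_
      fin_cases i <;> simp
    obtain ⟨hfin, hb⟩ := bound ζ hgen hord S (o 0) (o 1) (o 2) (o 3) φ hgenP' (hφ 0) (hφ 1) (hφ 3)
      ((lift_freeRels D o).1 hr)
    refine ⟨hfin, hb.trans ?_⟩
    have h := Cfsg.Lib.Linear.card_SL_mul (F := F) 3 (by norm_num)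
    rw [Fin.prod_univ_three] at h
    simp only [Fin.val_zero, Fin.val_one, Fin.val_two, pow_zero, pow_one] at h
    have h2 : 2 ≤ Fintype.card F := Fintype.one_lt_card
    obtain ⟨E, hE⟩ : ∃ E, Fintype.card F = E + 1 := ⟨Fintype.card F - 1, by omega⟩
    rw [hE] at h ⊢
    rw [Nat.add_sub_cancel] at h ⊢
    refine Nat.le_of_mul_le_mul_left (le_of_eq ?_) (show 0 < E by omega)
    rw [h, show (E + 1) ^ 3 - 1 = E * ((E + 1) ^ 2 + (E + 1) + 1) from Nat.sub_eq_of_eq_add (by ring),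
      show (E + 1) ^ 3 - (E + 1) = (E + 1) * (E * (E + 2)) from Nat.sub_eq_of_eq_add (by ring),
      show (E + 1) ^ 3 - (E + 1) ^ 2 = (E + 1) ^ 2 * E from Nat.sub_eq_of_eq_add (by ring)]
    ring

end Cfsg.Lib.Linear.ShortPres.Three
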