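import Cfsg.Agent.Lib.Linear.ShortPres.SLThree.Frame

/-!
# Short presentations of `SL₃`: spreading the commutator relations
-/

set_option autoImplicit false

namespace Cfsg.Lib.Linear.ShortPres

open Polynomial

/-- The commutator relations of the upper unitriangular group. -/
structure Frame.Full {F : Type*} [Field F] {G : Type*} [Group G] (S : Frame F G) : Prop where
  d1 : ∀ a b, Commute (S.X a) (S.Z b)
  d2 : ∀ a b, Commute (S.Z a) (S.Y b)
  e : ∀ a b, S.X a * S.Y b = S.Z (a * b) * S.Y b * S.X a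

variable {F : Type*} [Field F] [Fintype F] {p : ℕ} [Fact p.Prime] [CharP F p]

/-- An additive set containing `1` and closed under a generator is everything. -/
theorem mem_of_gens {a : F} (hg : Gens p a) (P : F → Prop) (h0 : P 0) (h1 : P 1)
    (hadd : ∀ x y, P x → P y → P (x + y)) (hmul : ∀ x, P x → P (a * x)) (c : F) : P c := by
  letI := ZMod.algebra F p
  obtain ⟨Q, rfl⟩ := hg c
  induction Q using Polynomial.induction_on' with
  | add f g hf hg => rw [map_add]; exact hadd _ _ hf hg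
  | monomial i r =>
    rw [aeval_monomial, ← ZMod.natCast_zmod_val r, map_natCast]
    have hi : P (a ^ i) := by
      induction i with
      | zero => simpa using h1
      | succ i ih => rw [pow_succ']; exact hmul _ ih
    induction r.val with
    | zero => simpa using h0
    | succ n ih => rw [Nat.cast_succ, add_mul, one_mul]; exact hadd _ _ ih hi

/-- The cube of a generator of the multiplicative group generates the field, the field of order four apart. -/
theorem gens_cube {ζ : F} (hord : orderOf ζ = Fintype.card F - 1) (h4 : Fintype.card F ≠ 4) :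
    Gens p (ζ ^ 3) := by
  rcases small_or_gens (p := p) (ζ ^ 3) with h | ⟨Q, hQ, hQ2, -, h⟩
  · exact h
  exfalso
  letI := ZMod.algebra F p
  have hζ : ζ ≠ 0 := fun h0 => by
    have : orderOf ζ = 0 := by rw [h0, orderOf_zero]
    have := Fintype.one_lt_card (α := F); omega
  have h1 := h X
  simp only [aeval_X] at h1
  have h2 : ζ ^ (3 * (Q - 1)) = 1 := by
    have : (ζ ^ 3) ^ (Q - 1) * ζ ^ 3 = 1 * ζ ^ 3 := by
      rw [← pow_succ, Nat.sub_add_cancel (by omega), h1, one_mul]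
    rw [pow_mul]
    exact mul_right_cancel₀ (pow_ne_zero _ hζ) this
  have hle := Nat.le_of_dvd (by omega) (orderOf_dvd_of_pow_eq_one h2)
  rw [hord] at hle
  have : Q ≤ 2 := by
    by_contra hc
    nlinarith [Nat.sub_add_cancel (show 1 ≤ Q by omega), Nat.sub_add_cancel (show 1 ≤ Fintype.card F from Fintype.card_pos)]
  have : Q = 2 := by omega
  subst this
  omega

namespace Frame

variable {G : Type*} [Group G] (S : Frame F G)

omit [Fintype F] in
theorem Y_X {a b : F} (h : S.X a * S.Y b = S.Z (a * b) * S.Y b * S.X a) :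
    S.Y b * S.X a = (S.Z (a * b))⁻¹ * S.X a * S.Y b := by
  rw [mul_assoc _ (S.X a), h]; simp [mul_assoc]

omit [Fintype F] in
theorem d1_of_left (hgen : ∀ x : Fˣ, ∃ i : ℕ, x = S.ζ ^ i) (h1 : ∀ a, Commute (S.X a) (S.Z 1)) (a b : F) :
    Commute (S.X a) (S.Z b) := by
  have hgZ : ∀ (i : ℕ) (a : F), S.g ^ i * S.Z a * (S.g ^ i)⁻¹ = S.Z ((S.ζ : F) ^ i * a) := by
    intro i
    induction i with
    | zero => simp
    | succ i ih =>
      intro a
      rw [pow_succ', show S.g * S.g ^ i * S.Z a * (S.g * S.g ^ i)⁻¹ = S.g * (S.g ^ i * S.Z a * (S.g ^ i)⁻¹) * S.g⁻¹ by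
        simp [mul_assoc], ih, S.g_Z, ← mul_assoc, ← pow_succ']
  rcases eq_or_ne b 0 with rfl | hb
  · rw [Z_zero]; exact Commute.one_right _
  obtain ⟨i, hi'⟩ := hgen (Units.mk0 b hb)
  have hb' : (S.ζ : F) ^ i = b := by rw [← Units.val_pow_eq_pow_val, ← hi', Units.val_mk0]
  have := Commute.map (h1 (b * a)) (MulAut.conj (S.g ^ i)).toMonoidHom
  simp only [MulEquiv.coe_toMonoidHom, MulAut.conj_apply] at this
  rwa [g_pow_X, hgZ, Units.val_inv_eq_inv_val, inv_pow, hb', mul_one, inv_mul_cancel_left₀ hb] at this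

omit [Fintype F] in
theorem e_add {x y b : F} (hd : Commute (S.X x) (S.Z y)) (hx : S.X x * S.Y b = S.Z x * S.Y b * S.X x)
    (hy : S.X y * S.Y b = S.Z y * S.Y b * S.X y) :
    S.X (x + y) * S.Y b = S.Z (x + y) * S.Y b * S.X (x + y) := by
  calc S.X (x + y) * S.Y b = S.X x * (S.X y * S.Y b) := by rw [S.X_add, mul_assoc]
    _ = (S.X x * S.Z y) * (S.Y b * S.X y) := by rw [hy]; simp [mul_assoc]
    _ = S.Z y * (S.X x * S.Y b) * S.X y := by rw [hd.eq]; simp [mul_assoc]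
    _ = (S.Z y * S.Z x) * S.Y b * (S.X x * S.X y) := by rw [hx]; simp [mul_assoc]
    _ = _ := by rw [← Z_add, ← S.X_add, add_comm y x]

omit [Fintype F] in
/-- The three relations spread from their values at second coordinate `1`. -/
theorem full_of_left (hgen : ∀ x : Fˣ, ∃ i : ℕ, x = S.ζ ^ i) (h1 : ∀ a, Commute (S.X a) (S.Z 1))
    (h2 : ∀ a, Commute (S.Z a) (S.Y 1)) (he : ∀ a, S.X a * S.Y 1 = S.Z a * S.Y 1 * S.X a) : S.Full := by
  have hhZ : ∀ (i : ℕ) (a : F), S.h ^ i * S.Z a * (S.h ^ i)⁻¹ = S.Z ((S.ζ : F) ^ i * a) := by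
    intro i
    induction i with
    | zero => simp
    | succ i ih =>
      intro a
      rw [pow_succ', show S.h * S.h ^ i * S.Z a * (S.h * S.h ^ i)⁻¹ = S.h * (S.h ^ i * S.Z a * (S.h ^ i)⁻¹) * S.h⁻¹ by
        simp [mul_assoc], ih, S.h_Z, ← mul_assoc, ← pow_succ']
  have hhY : ∀ (i : ℕ) (a : F), S.h ^ i * S.Y a * (S.h ^ i)⁻¹ = S.Y (((S.ζ : F) ^ i)⁻¹ * a) := by
    intro i
    induction i with
    | zero => simp
    | succ i ih =>
      intro a
      rw [pow_succ', show S.h * S.h ^ i * S.Y a * (S.h * S.h ^ i)⁻¹ = S.h * (S.h ^ i * S.Y a * (S.h ^ i)⁻¹) * S.h⁻¹ by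
        simp [mul_assoc], ih, S.h_Y, ← mul_assoc, Units.val_inv_eq_inv_val, ← inv_pow, ← inv_pow, ← pow_succ']
  constructor
  · exact S.d1_of_left hgen h1
  · intro a b
    rcases eq_or_ne b 0 with rfl | hb
    · rw [Y_zero]; exact Commute.one_right _
    obtain ⟨i, hi'⟩ := hgen (Units.mk0 b hb)⁻¹
    have hb' : (S.ζ : F) ^ i = b⁻¹ := by
      rw [← Units.val_pow_eq_pow_val, ← hi', Units.val_inv_eq_inv_val, Units.val_mk0]
    have := Commute.map (h2 (b * a)) (MulAut.conj (S.h ^ i)).toMonoidHom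
    simp only [MulEquiv.coe_toMonoidHom, MulAut.conj_apply] at this
    rwa [hhZ, hhY, hb', inv_inv, mul_one, inv_mul_cancel_left₀ hb] at this
  · intro a b
    rcases eq_or_ne b 0 with rfl | hb
    · simp [mul_zero, Y_zero, Z_zero]
    obtain ⟨i, hi'⟩ := hgen (Units.mk0 b hb)⁻¹
    have hb' : (S.ζ : F) ^ i = b⁻¹ := by
      rw [← Units.val_pow_eq_pow_val, ← hi', Units.val_inv_eq_inv_val, Units.val_mk0]
    have := congrArg (MulAut.conj (S.h ^ i)) (he (b ^ 2 * a))
    simp only [map_mul] at this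
    simp only [MulAut.conj_apply] at this
    rw [h_pow_X, hhY, hhZ, hb', inv_inv, mul_one, pow_right_comm, hb', ← mul_assoc, ← mul_assoc,
      show b⁻¹ ^ 2 * b ^ 2 * a = a by field_simp, show b⁻¹ * b ^ 2 * a = a * b by field_simp] at this
    exact this

/-- Seeds suffice when the cube of `ζ` generates the field. -/
theorem full_of_gens (hgen : ∀ x : Fˣ, ∃ i : ℕ, x = S.ζ ^ i) (h3 : Gens p ((S.ζ : F) ^ 3))
    (he : S.X 1 * S.Y 1 = S.Z 1 * S.Y 1 * S.X 1) (hd1 : Commute (S.X 1) (S.Z 1))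
    (hd2 : Commute (S.Z 1) (S.Y 1)) : S.Full := by
  have hcg : Commute S.h S.g := S.comm
  have h2gY : S.h * S.h * S.g * S.Y 1 * (S.h * S.h * S.g)⁻¹ = S.Y 1 := by
    rw [show S.h * S.h * S.g * S.Y 1 * (S.h * S.h * S.g)⁻¹ = S.h * (S.h * (S.g * S.Y 1 * S.g⁻¹) * S.h⁻¹) * S.h⁻¹ by
      simp [mul_assoc], g_Y, h_Y, h_Y]
    congr 1
    rw [Units.val_inv_eq_inv_val]
    field_simp
  have h2gX : ∀ a, S.h * S.h * S.g * S.X a * (S.h * S.h * S.g)⁻¹ = S.X ((S.ζ : F) ^ 3 * a) := fun a => by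
    rw [show S.h * S.h * S.g * S.X a * (S.h * S.h * S.g)⁻¹ = S.h * (S.h * (S.g * S.X a * S.g⁻¹) * S.h⁻¹) * S.h⁻¹ by
      simp [mul_assoc], show S.g * S.X a * S.g⁻¹ = _ from S.gX a, S.hX, S.hX]
    congr 1
    rw [Units.val_inv_eq_inv_val]
    field_simp
  have h2gZ : ∀ a, S.h * S.h * S.g * S.Z a * (S.h * S.h * S.g)⁻¹ = S.Z ((S.ζ : F) ^ 3 * a) := fun a => by
    rw [show S.h * S.h * S.g * S.Z a * (S.h * S.h * S.g)⁻¹ = S.h * (S.h * (S.g * S.Z a * S.g⁻¹) * S.h⁻¹) * S.h⁻¹ by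
      simp [mul_assoc], g_Z, h_Z, h_Z]
    congr 1
    ring
  have hgiZ : S.g⁻¹ * S.Z ((S.ζ : F) * 1) * S.g = S.Z 1 := by rw [← g_Z]; simp [mul_assoc]
  have h1 : ∀ a, Commute (S.X a) (S.Z 1) := by
    refine mem_of_gens h3 (fun a => Commute (S.X a) (S.Z 1)) (by rw [X_zero]; exact Commute.one_left _) hd1
      (fun x y hx hy => by rw [S.X_add]; exact hx.mul_left hy) fun x hx => ?_
    have := Commute.map hx (MulAut.conj (S.g⁻¹ * S.h)).toMonoidHom
    simp only [MulEquiv.coe_toMonoidHom, MulAut.conj_apply] at this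
    rw [show S.g⁻¹ * S.h * S.X x * (S.g⁻¹ * S.h)⁻¹ = S.g⁻¹ * (S.h * S.X x * S.h⁻¹) * S.g by simp [mul_assoc],
      show S.g⁻¹ * S.h * S.Z 1 * (S.g⁻¹ * S.h)⁻¹ = S.g⁻¹ * (S.h * S.Z 1 * S.h⁻¹) * S.g by simp [mul_assoc],
      S.hX, h_Z, hgiZ] at this
    have e : S.g⁻¹ * S.X ((S.ζ : F) ^ 2 * x) * S.g = S.X ((S.ζ : F) ^ 3 * x) := by
      have h' : S.g * S.X ((S.ζ : F) ^ 3 * x) * S.g⁻¹ = S.X ((S.ζ : F) ^ 2 * x) := by
        rw [show S.g * _ * S.g⁻¹ = _ from S.gX ((S.ζ : F) ^ 3 * x), Units.val_inv_eq_inv_val]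
        congr 1
        field_simp
      rw [← h']; simp [mul_assoc]
    rwa [e] at this
  have h2 : ∀ a, Commute (S.Z a) (S.Y 1) := by
    refine mem_of_gens h3 (fun a => Commute (S.Z a) (S.Y 1)) (by rw [Z_zero]; exact Commute.one_left _) hd2
      (fun x y hx hy => by rw [Z_add]; exact hx.mul_left hy) fun x hx => ?_
    have := Commute.map hx (MulAut.conj (S.h * S.h * S.g)).toMonoidHom
    simp only [MulEquiv.coe_toMonoidHom, MulAut.conj_apply] at this
    rwa [h2gY, h2gZ] at this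
  refine S.full_of_left hgen h1 h2 (mem_of_gens h3 (fun a => S.X a * S.Y 1 = S.Z a * S.Y 1 * S.X a)
    (by simp [X_zero, Z_zero]) he (fun x y hx hy => ?_) fun x hx => ?_)
  · exact S.e_add (S.d1_of_left hgen h1 x y) hx hy
  · have := congrArg (fun v => S.h * S.h * S.g * v * (S.h * S.h * S.g)⁻¹) hx
    simp only [← conj_mul] at this
    rwa [h2gX, h2gY, h2gZ] at this

omit [Fintype F] in
/-- Over the field of order four two commutator seeds suffice. -/
theorem full_of_four (h2 : (2 : F) = 0) (hgen : ∀ x : Fˣ, ∃ i : ℕ, x = S.ζ ^ i)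
    (h3 : (S.ζ : F) ^ 2 + (S.ζ : F) + 1 = 0)
    (he : S.X 1 * S.Y 1 = S.Z 1 * S.Y 1 * S.X 1)
    (hex : S.X ((S.ζ : F) ^ 2) * S.Y 1 = S.Z ((S.ζ : F) ^ 2) * S.Y 1 * S.X ((S.ζ : F) ^ 2)) : S.Full := by
  set z := (S.ζ : F)
  have hn : ∀ x : F, x + x = 0 := fun x => by rw [← two_mul, h2, zero_mul]
  have hsq : ∀ x : F, S.X x * S.X x = 1 ∧ S.Y x * S.Y x = 1 ∧ S.Z x * S.Z x = 1 := fun x => by
    rw [← S.X_add, ← Y_add, ← Z_add, hn]; exact ⟨S.X_zero, S.Y_zero, S.Z_zero⟩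
  have hcomm : ∀ a : F, S.X a * S.Y 1 = S.Z a * S.Y 1 * S.X a →
      Commute (S.X a) (S.Z a) ∧ Commute (S.Z a) (S.Y 1) := by
    intro a h
    obtain ⟨hXX, -, hZZ⟩ := hsq a
    obtain ⟨-, hYY, -⟩ := hsq 1
    set x := S.X a; set y := S.Y 1; set w := S.Z a
    have hxi : x⁻¹ = x := inv_eq_of_mul_eq_one_left hXX
    have hyi : y⁻¹ = y := inv_eq_of_mul_eq_one_left hYY
    have hwi : w⁻¹ = w := inv_eq_of_mul_eq_one_left hZZ
    have hw : w = x * y * x⁻¹ * y⁻¹ := by rw [h]; simp [mul_assoc]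
    have hw' : w = (x * y * x⁻¹ * y⁻¹)⁻¹ := by rw [← hw, hwi]
    have e1 : x * w * x⁻¹ = w := by
      conv_rhs => rw [hw']
      rw [hw, hxi, hyi, _root_.mul_inv_rev, _root_.mul_inv_rev, _root_.mul_inv_rev, hxi, hyi]
      simp [← mul_assoc, hXX]
    have e2 : y * w * y⁻¹ = w := by
      conv_rhs => rw [hw']
      rw [hw, hxi, hyi, _root_.mul_inv_rev, _root_.mul_inv_rev, _root_.mul_inv_rev, hxi, hyi]
      simp [mul_assoc, hYY]
    exact ⟨mul_inv_eq_iff_eq_mul.1 e1, (show Commute y w from mul_inv_eq_iff_eq_mul.1 e2).symm⟩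
  have hcube : z * z ^ 2 = 1 := by linear_combination (z - 1) * h3
  obtain ⟨c1, c1'⟩ := hcomm _ he
  obtain ⟨c2, c2'⟩ := hcomm _ hex
  have hz : z = 1 + z ^ 2 := by linear_combination h3 + (-1 - z ^ 2) * h2
  have hall : ∀ a : F, a = 0 ∨ a = 1 ∨ a = z ∨ a = z ^ 2 := by
    intro a
    rcases eq_or_ne a 0 with h | h
    · exact Or.inl h
    obtain ⟨i, hi⟩ := hgen (Units.mk0 a h)
    have : a = z ^ i := by rw [← Units.val_pow_eq_pow_val, ← hi, Units.val_mk0]
    rw [← Nat.mod_add_div i 3, pow_add, pow_mul, show z ^ 3 = 1 by rw [pow_succ' z 2, hcube], one_pow, mul_one] at this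
    have hlt : i % 3 < 3 := Nat.mod_lt _ (by norm_num)
    interval_cases i % 3
    · exact Or.inr (Or.inl (this.trans (pow_zero _)))
    · exact Or.inr (Or.inr (Or.inl (this.trans (pow_one _))))
    · exact Or.inr (Or.inr (Or.inr this))
  have d1z : Commute (S.X z) (S.Z 1) := by
    have := Commute.map c2 (MulAut.conj S.g).toMonoidHom
    simp only [MulEquiv.coe_toMonoidHom, MulAut.conj_apply] at this
    rw [show S.g * S.X (z ^ 2) * S.g⁻¹ = _ from S.gX _, g_Z, hcube, Units.val_inv_eq_inv_val] at this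
    rwa [show z⁻¹ * z ^ 2 = z by rw [pow_two, inv_mul_cancel_left₀ S.ζ.ne_zero]] at this
  have h1 : ∀ a, Commute (S.X a) (S.Z 1) := by
    intro a
    rcases hall a with rfl | rfl | rfl | rfl
    · rw [X_zero]; exact Commute.one_left _
    · exact c1
    · exact d1z
    · rw [show z ^ 2 = 1 + z by linear_combination h3 + (-1 - z) * h2, S.X_add]
      exact c1.mul_left d1z
  refine S.full_of_left hgen h1 (fun a => ?_) fun a => ?_
  · rcases hall a with rfl | rfl | rfl | rfl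
    · rw [Z_zero]; exact Commute.one_left _
    · exact c1'
    · rw [hz, Z_add]; exact c1'.mul_left c2'
    · exact c2'
  · rcases hall a with rfl | rfl | rfl | rfl
    · simp [X_zero, Z_zero]
    · exact he
    · rw [hz]; exact S.e_add (S.d1_of_left hgen h1 _ _) he hex
    · exact hex

end Frame

end Cfsg.Lib.Linear.ShortPres
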