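import Cfsg.Agent.Lib.Linear.ShortPres.SLThree.Torus
import Cfsg.Agent.Lib.Linear.ShortPres.SLThree.Bilinear

/-!
# Short presentations of `SL₃`: the covering bound
-/

set_option autoImplicit false

namespace Cfsg.Lib.Linear.ShortPres

namespace Frame

variable {F : Type*} [Field F] {G : Type*} [Group G] (S : Frame F G)

/-- The rank one part. -/
def InL (x : G) : Prop :=
  (∃ a, ∃ e ∈ S.T, x = S.X a * e) ∨ ∃ a, ∃ e ∈ S.T, ∃ d, x = S.X a * e * S.t * S.X d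

/-- The parabolic part. -/
def InP (x : G) : Prop := ∃ a b l, S.InL l ∧ x = S.Y a * S.Z b * l

/-- The middle part. -/
def InM (x : G) : Prop := ∃ b p, S.InP p ∧ x = S.Y b * S.w * p

/-- The big part. -/
def InB (x : G) : Prop := ∃ a e p, S.InP p ∧ x = S.Z a * S.X e * S.t * S.w * p

/-- All three parts. -/
def InS (x : G) : Prop := S.InP x ∨ S.InM x ∨ S.InB x

theorem inP_one : S.InP 1 :=
  ⟨0, 0, 1, Or.inl ⟨0, 1, one_mem _, by simp [X_zero]⟩, by simp [Y_zero, Z_zero]⟩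

theorem Y_comm_Z (hF : S.Full) (a b : F) : S.Y a * S.Z b = S.Z b * S.Y a := ((hF.d2 b a).eq).symm

/-- Conjugation rewritten as a commutation. -/
theorem T_swap {y : G} (hy : y ∈ S.T) :
    (∃ r : F, ∀ a, y * S.X a = S.X (r * a) * y) ∧ (∃ r : F, ∀ a, y * S.Y a = S.Y (r * a) * y) ∧
      (∃ r : F, ∀ a, y * S.Z a = S.Z (r * a) * y) ∧ (∃ r : F, ∀ a, S.X a * y = y * S.X (r * a)) := by
  obtain ⟨r, hr⟩ := S.T_X hy
  obtain ⟨s, hs⟩ := S.T_Y hy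
  obtain ⟨v, hv⟩ := S.T_Z hy
  obtain ⟨r', hr'⟩ := S.T_X (inv_mem hy)
  refine ⟨⟨r, fun a => mul_inv_eq_iff_eq_mul.1 (hr a)⟩, ⟨s, fun a => mul_inv_eq_iff_eq_mul.1 (hs a)⟩,
    ⟨v, fun a => mul_inv_eq_iff_eq_mul.1 (hv a)⟩, ⟨r', fun a => ?_⟩⟩
  rw [← hr', inv_inv]; simp [mul_assoc]

theorem t_swap {y : G} (hy : y ∈ S.T) : ∃ z ∈ S.T, S.t * y = z * S.t :=
  ⟨_, S.t_norm hy, by simp [mul_assoc]⟩

theorem t_inv_norm {y : G} (hy : y ∈ S.T) (htt : S.t * S.t ∈ S.T) : S.t⁻¹ * y * S.t ∈ S.T := by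
  have e : S.t⁻¹ * y * S.t = S.t * ((S.t * S.t)⁻¹ * y * (S.t * S.t)) * S.t⁻¹ := by simp [mul_assoc]
  rw [e]
  exact S.t_norm (mul_mem (mul_mem (inv_mem htt) hy) htt)

theorem w_sq (htt : S.t * S.t ∈ S.T) : S.w * S.w ∈ S.T := by
  have e : S.w * S.w = S.c * (S.t * S.t) * S.c⁻¹ := by simp [w, mul_assoc]
  rw [e]; exact S.c_norm htt

theorem w_swap {y : G} (hy : y ∈ S.T) (htt : S.t * S.t ∈ S.T) :
    (∃ z ∈ S.T, y * S.w = S.w * z) ∧ ∃ z ∈ S.T, S.w * y = z * S.w := by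
  have hci : ∀ x ∈ S.T, S.c⁻¹ * x * S.c ∈ S.T := fun x hx => by
    have h2 := S.c_norm (S.c_norm hx)
    have e : S.c * (S.c * x * S.c⁻¹) * S.c⁻¹ = (S.c * S.c) * x * (S.c * S.c)⁻¹ := by simp [mul_assoc]
    rw [e, ← c_inv, inv_inv] at h2
    exact h2
  refine ⟨⟨S.c * (S.t⁻¹ * (S.c⁻¹ * y * S.c) * S.t) * S.c⁻¹, S.c_norm (S.t_inv_norm (hci _ hy) htt), ?_⟩,
    ⟨S.c * (S.t * (S.c⁻¹ * y * S.c) * S.t⁻¹) * S.c⁻¹, S.c_norm (S.t_norm (hci _ hy)), ?_⟩⟩ <;>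
    simp [w, mul_assoc]

/-- `w = t⁻¹ c`. -/
theorem w_eq : S.w = S.t⁻¹ * S.c := by
  rw [eq_inv_mul_iff_mul_eq]; exact S.c_eq.symm

/-- How `t` and `w` move the root groups at `(1,3)`, `(2,3)`, `(1,2)`. -/
theorem moves (htt : S.t * S.t ∈ S.T) :
    (∃ r : F, ∀ a, S.t * S.Y a = S.Z (r * a) * S.t) ∧ (∃ r : F, ∀ a, S.t * S.Z a = S.Y (r * a) * S.t) ∧
    (∀ a, ∃ b, S.Y a * S.t = S.t * S.Z b) ∧ (∀ a, ∃ b, S.w * S.X a = S.Z b * S.w) ∧
    (∀ a, ∃ b, S.X a * S.w = S.w * S.Z b) ∧ (∀ a, ∃ b, S.w * S.Z a = S.X b * S.w) ∧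
    (∀ a, ∃ b, S.Z a * S.w = S.w * S.X b) := by
  have htc : S.t * S.c = S.c * S.c * S.t⁻¹ := by rw [tc', c_inv]
  obtain ⟨k, hk⟩ := S.T_X (inv_mem htt)
  have hYZ : ∀ a, S.t * S.Y a * S.t⁻¹ = S.Z ((k : F) * a) := by
    intro a
    rw [show S.t * S.Y a * S.t⁻¹ = (S.t * S.c) * S.X a * (S.t * S.c)⁻¹ by simp [Y, mul_assoc], htc, Z, ← hk]
    simp [mul_assoc]
  obtain ⟨m, hm⟩ := S.T_Y htt
  have hZY : ∀ a, S.t * S.Z a * S.t⁻¹ = S.Y ((m : F) * ((k⁻¹ : Fˣ) : F) * a) := by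
    intro a
    have h1 := hYZ (((k⁻¹ : Fˣ) : F) * a)
    rw [← mul_assoc, Units.mul_inv, one_mul] at h1
    rw [← h1, mul_assoc (m : F), ← hm]
    simp [mul_assoc]
  have hYt : ∀ a, ∃ b, S.Y a * S.t = S.t * S.Z b := by
    intro a
    refine ⟨((m * k⁻¹)⁻¹ : Fˣ) * a, ?_⟩
    have h1 := hZY (((m * k⁻¹)⁻¹ : Fˣ) * a)
    rw [← mul_assoc, ← Units.val_mul, ← Units.val_mul, mul_inv_cancel, Units.val_one, one_mul] at h1
    exact (mul_inv_eq_iff_eq_mul.1 h1).symm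
  have hwX : ∀ a, ∃ b, S.w * S.X a = S.Z b * S.w := by
    intro a
    obtain ⟨b, hb⟩ := hYt a
    refine ⟨b, ?_⟩
    have e : S.w * S.X a * S.w⁻¹ = S.t⁻¹ * (S.Y a * S.t) := by
      rw [w_eq]; simp [Y, mul_assoc]
    rw [hb, inv_mul_cancel_left] at e
    exact mul_inv_eq_iff_eq_mul.1 e
  obtain ⟨n, hn⟩ := S.T_X (S.w_sq htt)
  have hwZ : ∀ a, ∃ b, S.X a * S.w = S.w * S.Z b := by
    intro a
    obtain ⟨b, hb⟩ := hwX (((n⁻¹ : Fˣ) : F) * a)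
    refine ⟨b, ?_⟩
    have h1 := hn (((n⁻¹ : Fˣ) : F) * a)
    rw [← mul_assoc, Units.mul_inv, one_mul] at h1
    rw [← h1, show S.w * S.w * S.X _ * (S.w * S.w)⁻¹ * S.w = S.w * (S.w * S.X (((n⁻¹ : Fˣ) : F) * a)) * S.w⁻¹ by
      simp [mul_assoc], hb]
    simp [mul_assoc]
  obtain ⟨kz, hkz⟩ := S.T_Z (S.w_sq htt)
  have hwinj : ∀ a, ∃ b, S.w * S.Z a = S.X b * S.w := by
    intro a
    have hsurj : ∃ c, S.Z a * S.w = S.w * S.X c := by
      refine ⟨(m : F) * ((k⁻¹ : Fˣ) : F) * a, ?_⟩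
      rw [w_eq, mul_assoc S.t⁻¹, show S.c * S.X ((m : F) * ((k⁻¹ : Fˣ) : F) * a) = S.Y ((m : F) * ((k⁻¹ : Fˣ) : F) * a) * S.c by simp [Y, mul_assoc],
        ← hZY]
      simp [mul_assoc]
    obtain ⟨c, hc⟩ := hsurj
    refine ⟨(n : F) * c, ?_⟩
    have h3 := congrArg (fun x => S.w * x * S.w⁻¹) hc
    rw [← hn]
    calc S.w * S.Z a = S.w * (S.Z a * S.w) * S.w⁻¹ := by simp [mul_assoc]
      _ = S.w * (S.w * S.X c) * S.w⁻¹ := h3
      _ = _ := by simp [mul_assoc]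
  have hZw : ∀ a, ∃ b, S.Z a * S.w = S.w * S.X b := by
    intro a
    obtain ⟨b, hb⟩ := hwinj (((kz⁻¹ : Fˣ) : F) * a)
    refine ⟨b, ?_⟩
    have h1 := hkz (((kz⁻¹ : Fˣ) : F) * a)
    rw [← mul_assoc, Units.mul_inv, one_mul] at h1
    rw [← h1, show S.w * S.w * S.Z _ * (S.w * S.w)⁻¹ * S.w = S.w * (S.w * S.Z (((kz⁻¹ : Fˣ) : F) * a)) * S.w⁻¹ by
      simp [mul_assoc], hb]
    simp [mul_assoc]
  exact ⟨⟨k, fun a => mul_inv_eq_iff_eq_mul.1 (hYZ a)⟩, ⟨_, fun a => mul_inv_eq_iff_eq_mul.1 (hZY a)⟩, hYt, hwX,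
    hwZ, hwinj, hZw⟩

variable [Fintype F] (p : ℕ) [Fact p.Prime] [CharP F p] (hgen : ∀ x : Fˣ, ∃ i : ℕ, x = S.ζ ^ i) (hF : S.Full)

omit [Fintype F] in
theorem inL_X {l : G} (hl : S.InL l) (s : F) : S.InL (S.X s * l) := by
  rcases hl with ⟨a, e, he, rfl⟩ | ⟨a, e, he, d, rfl⟩
  · exact Or.inl ⟨s + a, e, he, by simp [S.X_add, mul_assoc]⟩
  · exact Or.inr ⟨s + a, e, he, d, by simp [S.X_add, mul_assoc]⟩

omit [Fintype F] in
theorem inL_T {l y : G} (hl : S.InL l) (hy : y ∈ S.T) : S.InL (y * l) := by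
  obtain ⟨⟨r, hr⟩, -, -, -⟩ := S.T_swap hy
  rcases hl with ⟨a, e, he, rfl⟩ | ⟨a, e, he, d, rfl⟩
  · exact Or.inl ⟨r * a, y * e, mul_mem hy he, by rw [← mul_assoc, hr]; simp [mul_assoc]⟩
  · refine Or.inr ⟨r * a, y * e, mul_mem hy he, d, ?_⟩
    rw [show y * (S.X a * e * S.t * S.X d) = y * S.X a * e * S.t * S.X d by simp [mul_assoc], hr]
    simp [mul_assoc]

include p hgen

theorem inL_t {l : G} (hl : S.InL l) : S.InL (S.t * l) := by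
  have htt := S.t_sq_mem p hgen
  rcases hl with ⟨a, e, he, rfl⟩ | ⟨a, e, he, d, rfl⟩
  · obtain ⟨-, -, -, r, hr⟩ := S.T_swap he
    obtain ⟨z, hz, hze⟩ := S.t_swap he
    refine Or.inr ⟨0, z, hz, r * a, ?_⟩
    rw [hr, X_zero, one_mul, ← hze]; simp [mul_assoc]
  · obtain ⟨z, hz, hze⟩ := S.t_swap he
    rcases eq_or_ne a 0 with rfl | ha
    · obtain ⟨⟨r, hr⟩, -, -, -⟩ := S.T_swap (mul_mem hz htt)
      refine Or.inl ⟨r * d, z * (S.t * S.t), mul_mem hz htt, ?_⟩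
      rw [← hr, X_zero, one_mul, show S.t * (e * S.t * S.X d) = S.t * e * S.t * S.X d by simp [mul_assoc], hze]
      simp [mul_assoc]
    · obtain ⟨β, δ, f, hf, hc⟩ := S.cell hgen a ha
      obtain ⟨-, -, -, r, hr⟩ := S.T_swap (mul_mem hz htt)
      obtain ⟨z', hz', hze'⟩ := S.t_swap (mul_mem hz htt)
      refine Or.inr ⟨β, f * z', mul_mem hf hz', r * δ + d, ?_⟩
      calc S.t * (S.X a * e * S.t * S.X d) = (S.t * S.X a * S.t⁻¹) * (S.t * e) * S.t * S.X d := by simp [mul_assoc]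
        _ = S.X β * f * S.t * (S.X δ * (z * (S.t * S.t))) * S.X d := by rw [hc, hze]; simp [mul_assoc]
        _ = S.X β * f * (S.t * (z * (S.t * S.t))) * S.X (r * δ + d) := by rw [hr, S.X_add]; simp [mul_assoc]
        _ = _ := by rw [hze']; simp [mul_assoc]

omit p hgen [Fintype F]

theorem inP_Y {x : G} (hx : S.InP x) (s : F) : S.InP (S.Y s * x) := by
  obtain ⟨a, b, l, hl, rfl⟩ := hx
  exact ⟨s + a, b, l, hl, by simp [Y_add, mul_assoc]⟩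

theorem inP_T {x y : G} (hx : S.InP x) (hy : y ∈ S.T) : S.InP (y * x) := by
  obtain ⟨a, b, l, hl, rfl⟩ := hx
  obtain ⟨-, ⟨s, hs⟩, ⟨v, hv⟩, -⟩ := S.T_swap hy
  refine ⟨s * a, v * b, y * l, S.inL_T hl hy, ?_⟩
  rw [show y * (S.Y a * S.Z b * l) = y * S.Y a * S.Z b * l by simp [mul_assoc], hs,
    mul_assoc (S.Y _) y, hv]
  simp [mul_assoc]

include hF

theorem inP_Z {x : G} (hx : S.InP x) (s : F) : S.InP (S.Z s * x) := by
  obtain ⟨a, b, l, hl, rfl⟩ := hx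
  refine ⟨a, s + b, l, hl, ?_⟩
  rw [show S.Z s * (S.Y a * S.Z b * l) = S.Z s * S.Y a * S.Z b * l by simp [mul_assoc], ← S.Y_comm_Z hF]
  simp [Z_add, mul_assoc]

theorem inP_X {x : G} (hx : S.InP x) (s : F) : S.InP (S.X s * x) := by
  obtain ⟨a, b, l, hl, rfl⟩ := hx
  refine ⟨a, s * a + b, S.X s * l, S.inL_X hl s, ?_⟩
  rw [show S.X s * (S.Y a * S.Z b * l) = S.X s * S.Y a * S.Z b * l by simp [mul_assoc], hF.e,
    ← S.Y_comm_Z hF, mul_assoc (S.Y a * S.Z (s * a)), (hF.d1 s b).eq]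
  simp [Z_add, mul_assoc]

include p hgen

theorem inP_t [Fintype F] {x : G} (hx : S.InP x) : S.InP (S.t * x) := by
  obtain ⟨a, b, l, hl, rfl⟩ := hx
  obtain ⟨⟨r, hr⟩, ⟨r', hr'⟩, -⟩ := S.moves (S.t_sq_mem p hgen)
  refine ⟨r' * b, r * a, S.t * l, S.inL_t p hgen hl, ?_⟩
  rw [show S.t * (S.Y a * S.Z b * l) = S.t * S.Y a * S.Z b * l by simp [mul_assoc], hr,
    mul_assoc (S.Z _) S.t, hr', S.Y_comm_Z hF]
  simp [mul_assoc]

variable [Fintype F]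

theorem inS_X {x : G} (hx : S.InS x) (s : F) : S.InS (S.X s * x) := by
  obtain ⟨-, -, -, -, hwZ, -, hZw⟩ := S.moves (S.t_sq_mem p hgen)
  rcases hx with h | ⟨b, q, hq, rfl⟩ | ⟨a, e, q, hq, rfl⟩
  · exact Or.inl (S.inP_X hF h s)
  · obtain ⟨c, hc⟩ := hwZ s
    obtain ⟨d, hd⟩ := hZw (s * b)
    refine Or.inr (Or.inl ⟨b, S.X d * (S.Z c * q), S.inP_X hF (S.inP_Z hF hq c) d, ?_⟩)
    calc S.X s * (S.Y b * S.w * q) = S.Z (s * b) * S.Y b * (S.X s * S.w) * q := by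
          rw [← mul_assoc, ← mul_assoc, hF.e]; simp [mul_assoc]
      _ = S.Y b * (S.Z (s * b) * S.w) * S.Z c * q := by rw [hc, ← S.Y_comm_Z hF]; simp [mul_assoc]
      _ = _ := by rw [hd]; simp [mul_assoc]
  · refine Or.inr (Or.inr ⟨a, s + e, q, hq, ?_⟩)
    rw [show S.X s * (S.Z a * S.X e * S.t * S.w * q) = S.X s * S.Z a * S.X e * S.t * S.w * q by simp [mul_assoc],
      (hF.d1 s a).eq, S.X_add]
    simp [mul_assoc]

theorem inB_T {x y : G} (hx : S.InB x) (hy : y ∈ S.T) : S.InB (y * x) := by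
  obtain ⟨a, e, q, hq, rfl⟩ := hx
  obtain ⟨⟨r, hr⟩, -, ⟨v, hv⟩, -⟩ := S.T_swap hy
  have htt := S.t_sq_mem p hgen
  have hy' := S.t_inv_norm hy htt
  obtain ⟨⟨z, hz, hzw⟩, -⟩ := S.w_swap hy' htt
  refine ⟨v * a, r * e, z * q, S.inP_T hq hz, ?_⟩
  calc y * (S.Z a * S.X e * S.t * S.w * q) = y * S.Z a * S.X e * S.t * S.w * q := by simp [mul_assoc]
    _ = S.Z (v * a) * (y * S.X e) * S.t * S.w * q := by rw [hv]; simp [mul_assoc]
    _ = S.Z (v * a) * S.X (r * e) * S.t * ((S.t⁻¹ * y * S.t) * S.w) * q := by rw [hr]; simp [mul_assoc]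
    _ = _ := by rw [hzw]; simp [mul_assoc]

theorem inS_T {x y : G} (hx : S.InS x) (hy : y ∈ S.T) : S.InS (y * x) := by
  rcases hx with h | ⟨b, q, hq, rfl⟩ | h
  · exact Or.inl (S.inP_T h hy)
  · obtain ⟨-, ⟨r, hr⟩, -, -⟩ := S.T_swap hy
    obtain ⟨⟨z, hz, hzw⟩, -⟩ := S.w_swap hy (S.t_sq_mem p hgen)
    refine Or.inr (Or.inl ⟨r * b, z * q, S.inP_T hq hz, ?_⟩)
    rw [show y * (S.Y b * S.w * q) = y * S.Y b * S.w * q by simp [mul_assoc], hr, mul_assoc (S.Y _) y, hzw]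
    simp [mul_assoc]
  · exact Or.inr (Or.inr (S.inB_T p hgen hF h hy))

theorem inB_Y {x : G} (hx : S.InB x) (s : F) : S.InB (S.Y s * x) := by
  obtain ⟨a, e, q, hq, rfl⟩ := hx
  obtain ⟨-, -, hYt, -, -, -, hZw⟩ := S.moves (S.t_sq_mem p hgen)
  obtain ⟨c, hc⟩ := hYt s
  obtain ⟨d, hd⟩ := hZw c
  refine ⟨a + -(e * s), e, S.X d * q, S.inP_X hF hq d, ?_⟩
  have hYX : S.Y s * S.X e = S.Z (-(e * s)) * S.X e * S.Y s := by
    rw [Y_X S (hF.e e s)]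
    congr 2
    refine (eq_inv_of_mul_eq_one_left ?_).symm
    rw [← Z_add, neg_add_cancel, Z_zero]
  calc S.Y s * (S.Z a * S.X e * S.t * S.w * q) = S.Z a * (S.Y s * S.X e) * S.t * S.w * q := by
        rw [← mul_assoc, ← mul_assoc, ← mul_assoc, ← mul_assoc, S.Y_comm_Z hF]; simp [mul_assoc]
    _ = S.Z a * S.Z (-(e * s)) * S.X e * (S.Y s * S.t) * S.w * q := by rw [hYX]; simp [mul_assoc]
    _ = S.Z a * S.Z (-(e * s)) * S.X e * S.t * (S.Z c * S.w) * q := by rw [hc]; simp [mul_assoc]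
    _ = _ := by rw [hd, Z_add]; simp [mul_assoc]

theorem inS_t {x : G} (hx : S.InS x) : S.InS (S.t * x) := by
  have htt := S.t_sq_mem p hgen
  obtain ⟨⟨r, hr⟩, ⟨r', hr'⟩, -, -, hwZ, -, -⟩ := S.moves htt
  rcases hx with h | ⟨b, q, hq, rfl⟩ | ⟨a, e, q, hq, rfl⟩
  · exact Or.inl (S.inP_t p hgen hF h)
  · refine Or.inr (Or.inr ⟨r * b, 0, q, hq, ?_⟩)
    rw [← mul_assoc, ← mul_assoc, hr, X_zero, mul_one]
  · rcases eq_or_ne e 0 with rfl | he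
    · obtain ⟨⟨z, hz, hzw⟩, -⟩ := S.w_swap htt htt
      refine Or.inr (Or.inl ⟨r' * a, z * q, S.inP_T hq hz, ?_⟩)
      rw [show S.t * (S.Z a * S.X 0 * S.t * S.w * q) = S.t * S.Z a * S.t * S.w * q by simp [X_zero, mul_assoc], hr',
        mul_assoc (S.Y _) S.t, mul_assoc (S.Y _), hzw]
      simp [mul_assoc]
    · obtain ⟨β, δ, f, hf, hcell⟩ := S.cell hgen e he
      obtain ⟨-, -, -, k, hk⟩ := S.T_swap htt
      obtain ⟨⟨z, hz, hzw⟩, -⟩ := S.w_swap htt htt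
      obtain ⟨z', hz', hze'⟩ := S.t_swap htt
      obtain ⟨c, hc⟩ := hwZ (k * δ)
      have hbase : S.InB (S.X β * ((f * z') * (S.t * S.w * (S.Z c * q)))) := by
        have h0 : S.InB (S.t * S.w * (S.Z c * q)) :=
          ⟨0, 0, S.Z c * q, S.inP_Z hF hq c, by simp [Z_zero, X_zero]⟩
        obtain ⟨a1, e1, q1, hq1, heq⟩ := S.inB_T p hgen hF h0 (mul_mem hf hz')
        refine ⟨a1, β + e1, q1, hq1, ?_⟩
        rw [heq, ← mul_assoc, ← mul_assoc, ← mul_assoc, ← mul_assoc, (hF.d1 β a1).eq, S.X_add]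
        simp [mul_assoc]
      obtain ⟨a1, e1, q1, hq1, heq⟩ := S.inB_Y p hgen hF hbase (r' * a)
      refine Or.inr (Or.inr ⟨a1, e1, q1, hq1, ?_⟩)
      rw [← heq]
      calc S.t * (S.Z a * S.X e * S.t * S.w * q) = S.t * S.Z a * S.X e * S.t * S.w * q := by simp [mul_assoc]
        _ = S.Y (r' * a) * (S.t * S.X e * S.t⁻¹) * (S.t * S.t) * S.w * q := by rw [hr']; simp [mul_assoc]
        _ = S.Y (r' * a) * S.X β * f * S.t * (S.X δ * (S.t * S.t)) * S.w * q := by rw [hcell]; simp [mul_assoc]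
        _ = S.Y (r' * a) * S.X β * f * (S.t * (S.t * S.t)) * (S.X (k * δ) * S.w) * q := by rw [hk]; simp [mul_assoc]
        _ = _ := by rw [hze', hc]; simp [mul_assoc]

theorem inS_w {x : G} (hx : S.InS x) : S.InS (S.w * x) := by
  have htt := S.t_sq_mem p hgen
  have hww := S.w_sq htt
  obtain ⟨-, -, -, hwX, -, hwZ', -⟩ := S.moves htt
  rcases hx with h | ⟨b, q, hq, rfl⟩ | ⟨a, e, q, hq, rfl⟩
  · exact Or.inr (Or.inl ⟨0, x, h, by simp [Y_zero]⟩)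
  · rcases eq_or_ne b 0 with rfl | hb
    · refine Or.inl ?_
      have := S.inP_T hq hww
      simpa [Y_zero, mul_assoc] using this
    · obtain ⟨β, δ, f, hf, hcell⟩ := S.cell hgen b hb
      obtain ⟨⟨z, hz, hzw⟩, -⟩ := S.w_swap (S.c_norm hf) htt
      refine Or.inr (Or.inl ⟨β, z * (S.Y δ * ((S.w * S.w) * q)), S.inP_T (S.inP_Y (S.inP_T hq hww) δ) hz, ?_⟩)
      calc S.w * (S.Y b * S.w * q) = S.c * (S.t * S.X b * S.t⁻¹) * S.c⁻¹ * ((S.w * S.w) * q) := by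
            simp [w, Y, mul_assoc]
        _ = S.Y β * ((S.c * f * S.c⁻¹) * S.w) * S.Y δ * ((S.w * S.w) * q) := by
            rw [hcell]; simp [w, Y, mul_assoc]
        _ = _ := by rw [hzw]; simp [mul_assoc]
  · obtain ⟨d, hd⟩ := hwZ' a
    obtain ⟨c, hc⟩ := hwX e
    refine Or.inr (Or.inr ⟨c, d, S.t * q, S.inP_t p hgen hF hq, ?_⟩)
    calc S.w * (S.Z a * S.X e * S.t * S.w * q) = S.w * S.Z a * S.X e * S.t * S.w * q := by simp [mul_assoc]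
      _ = S.X d * (S.w * S.X e) * S.t * S.w * q := by rw [hd]; simp [mul_assoc]
      _ = S.X d * S.Z c * (S.w * S.t * S.w) * q := by rw [hc]; simp [mul_assoc]
      _ = _ := by rw [(hF.d1 d c).eq, S.braid_w]; simp [mul_assoc]

theorem card_le : Finite G ∧ Nat.card G ≤
    Fintype.card F ^ 3 * (Fintype.card F + 1) * (Fintype.card F - 1) ^ 2 * (Fintype.card F ^ 2 + Fintype.card F + 1) := by
  classical
  set N := Fintype.card F - 1 with hN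
  let E : Fin N × Fin N → G := fun z => S.h ^ (z.1 : ℕ) * S.g ^ (z.2 : ℕ)
  let LT := (F × Fin N × Fin N) ⊕ (F × (Fin N × Fin N) × F)
  let fL : LT → G := fun z => match z with
    | .inl (a, e) => S.X a * E e
    | .inr (a, e, d) => S.X a * E e * S.t * S.X d
  have hL : ∀ l, S.InL l → ∃ z, fL z = l := by
    rintro l (⟨a, e, he, rfl⟩ | ⟨a, e, he, d, rfl⟩) <;> obtain ⟨i, j, rfl⟩ := S.T_repr he
    · exact ⟨.inl (a, i, j), rfl⟩
    · exact ⟨.inr (a, (i, j), d), rfl⟩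
  let PT := F × F × LT
  let fP : PT → G := fun z => S.Y z.1 * S.Z z.2.1 * fL z.2.2
  have hP : ∀ x, S.InP x → ∃ z, fP z = x := by
    rintro x ⟨a, b, l, hl, rfl⟩
    obtain ⟨z, rfl⟩ := hL l hl
    exact ⟨(a, b, z), rfl⟩
  let fS : PT ⊕ (F × PT) ⊕ (F × F × PT) → G := fun z => match z with
    | .inl z => fP z
    | .inr (.inl (b, z)) => S.Y b * S.w * fP z
    | .inr (.inr (a, e, z)) => S.Z a * S.X e * S.t * S.w * fP z
  have hS : ∀ x, S.InS x → x ∈ Set.range fS := by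
    rintro x (h | ⟨b, q, hq, rfl⟩ | ⟨a, e, q, hq, rfl⟩)
    · obtain ⟨z, rfl⟩ := hP x h; exact ⟨.inl z, rfl⟩
    · obtain ⟨z, rfl⟩ := hP q hq; exact ⟨.inr (.inl (b, z)), rfl⟩
    · obtain ⟨z, rfl⟩ := hP q hq; exact ⟨.inr (.inr (a, e, z)), rfl⟩
  have hfin : {x | S.InS x}.Finite := (Set.finite_range fS).subset hS
  have hleft : ∀ g ∈ ({S.u, S.h, S.t, S.c} : Set G), ∀ x, S.InS x → S.InS (g * x) := by
    intro g hg x hx
    rcases hg with rfl | rfl | rfl | rfl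
    · rw [← S.X_one]; exact S.inS_X p hgen hF hx 1
    · exact S.inS_T p hgen hF hx S.h_mem
    · exact S.inS_t p hgen hF hx
    · rw [c_eq, mul_assoc]; exact S.inS_t p hgen hF (S.inS_w p hgen hF hx)
  have hall : ∀ x, S.InS x := by
    intro x
    have hmem : x ∈ Subgroup.closure ({S.u, S.h, S.t, S.c} : Set G) := by rw [S.gen]; trivial
    induction hmem using Subgroup.closure_induction_left with
    | one => exact Or.inl S.inP_one
    | mul_left g hg y _ ih => exact hleft g hg y ih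
    | inv_mul_cancel g hg y _ ih =>
      have hb := (hfin.injOn_iff_bijOn_of_mapsTo (f := fun z => g * z) (fun z hz => hleft g hg z hz)).1
        (mul_right_injective g).injOn
      obtain ⟨z, hz, hzy⟩ := hb.surjOn ih
      rw [← hzy, inv_mul_cancel_left]
      exact hz
  have hsurj : Function.Surjective fS := fun x => hS x (hall x)
  refine ⟨Finite.of_surjective fS hsurj, (Nat.card_le_card_of_surjective fS hsurj).trans (le_of_eq ?_)⟩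
  simp only [PT, LT, Nat.card_sum, Nat.card_prod, Nat.card_fin, Nat.card_eq_fintype_card]
  simp only [Fintype.card_sum, Fintype.card_prod, Fintype.card_fin]
  ring

end Frame

end Cfsg.Lib.Linear.ShortPres
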