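import Cfsg.Agent.Lib.Linear.ShortPres.SLTwoOdd

/-!
# Short presentations of `SL₃`: the derived torus and root relations
-/

set_option autoImplicit false

namespace Cfsg.Lib.Linear.ShortPres

/-- The basic relations of a group generated by a rank one group and a three-cycle. -/
structure Frame (F : Type*) [Field F] (G : Type*) [Group G] where
  u : G
  h : G
  t : G
  c : G
  X : F → G
  ζ : Fˣ
  gen : Subgroup.closure ({u, h, t, c} : Set G) = ⊤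
  X_add : ∀ a b, X (a + b) = X a * X b
  X_one : X 1 = u
  comm : h * (c * h * c⁻¹) = c * h * c⁻¹ * h
  tht : t * h * t⁻¹ = h⁻¹
  prod : h * (c * h * c⁻¹) * (c * c * h * (c * c)⁻¹) = 1
  braid : t * u * t⁻¹ = u⁻¹ * t * u⁻¹
  cube : c * c * c = 1
  tc : t * c * (t * c) = 1
  hX : ∀ a, h * X a * h⁻¹ = X ((ζ : F) ^ 2 * a)
  gX : ∀ a, c * h * c⁻¹ * X a * (c * h * c⁻¹)⁻¹ = X (((ζ⁻¹ : Fˣ) : F) * a)

namespace Frame

variable {F : Type*} [Field F] {G : Type*} [Group G] (S : Frame F G)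

/-- The second torus generator. -/
def g : G := S.c * S.h * S.c⁻¹

/-- The third torus element. -/
def k : G := S.c * S.c * S.h * (S.c * S.c)⁻¹

/-- The torus. -/
def T : Subgroup G := Subgroup.closure ({S.h, S.g} : Set G)

/-- The element interchanging the last two coordinates. -/
def w : G := S.c * S.t * S.c⁻¹

/-- The root group at `(2,3)`. -/
def Y (a : F) : G := S.c * S.X a * S.c⁻¹

/-- The root group at `(1,3)`. -/
def Z (a : F) : G := S.c * S.c * S.t * S.X a * (S.c * S.c * S.t)⁻¹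

theorem h_mem : S.h ∈ S.T := Subgroup.subset_closure (Or.inl rfl)

theorem g_mem : S.g ∈ S.T := Subgroup.subset_closure (Or.inr rfl)

theorem T_comm {x y : G} (hx : x ∈ S.T) (hy : y ∈ S.T) : x * y = y * x := by
  have hgh : Commute S.h S.g := S.comm
  induction hx, hy using Subgroup.closure_induction₂ with
  | mem a b ha hb =>
    simp only [Set.mem_insert_iff, Set.mem_singleton_iff] at ha hb
    rcases ha with rfl | rfl <;> rcases hb with rfl | rfl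
    · rfl
    · exact hgh.eq
    · exact hgh.symm.eq
    · rfl
  | one_left a _ => rw [one_mul, mul_one]
  | one_right a _ => rw [one_mul, mul_one]
  | mul_left a b d _ _ _ h1 h2 => exact (Commute.mul_left (h1 : Commute a d) (h2 : Commute b d)).eq
  | mul_right a b d _ _ _ h1 h2 => exact (Commute.mul_right (h1 : Commute _ _) (h2 : Commute _ _)).eq
  | inv_left a b _ _ h1 => exact (Commute.inv_left (h1 : Commute a b)).eq
  | inv_right a b _ _ h1 => exact (Commute.inv_right (h1 : Commute a b)).eq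

theorem k_eq : S.k = S.g⁻¹ * S.h⁻¹ := by
  rw [← _root_.mul_inv_rev]
  exact eq_inv_of_mul_eq_one_right S.prod

theorem k_mem : S.k ∈ S.T := by
  rw [k_eq]; exact mul_mem (inv_mem S.g_mem) (inv_mem S.h_mem)

theorem X_zero : S.X 0 = 1 := by
  have := S.X_add 0 0
  rw [add_zero] at this
  exact left_eq_mul.1 this

theorem X_neg (a : F) : S.X (-a) = (S.X a)⁻¹ := by
  refine eq_inv_of_mul_eq_one_left ?_
  rw [← S.X_add, neg_add_cancel, X_zero]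

theorem c_inv : S.c⁻¹ = S.c * S.c := inv_eq_of_mul_eq_one_left S.cube

theorem tc' : S.t * S.c = S.c⁻¹ * S.t⁻¹ := by
  rw [← _root_.mul_inv_rev]
  exact eq_inv_of_mul_eq_one_left S.tc

theorem tct : S.t * S.c * S.t = S.c⁻¹ := by
  rw [tc', mul_assoc, inv_mul_cancel, mul_one]

theorem c_inv_h : S.c⁻¹ * S.h * S.c = S.k := by
  rw [c_inv, k]
  have e : S.c = (S.c * S.c)⁻¹ := by rw [← c_inv, inv_inv]
  nth_rewrite 3 [e]
  rfl

theorem t_g : S.t * S.g * S.t⁻¹ = S.h * S.g := by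
  have hinv : S.t⁻¹ * S.h * S.t = S.h⁻¹ := by
    have := congrArg (fun x => S.t⁻¹ * x⁻¹ * S.t) S.tht
    simpa [mul_assoc] using this.symm
  have e : S.t * S.g * S.t⁻¹ = (S.t * S.c) * S.h * (S.t * S.c)⁻¹ := by
    simp [g, mul_assoc]
  rw [e, tc']
  have e2 : S.c⁻¹ * S.t⁻¹ * S.h * (S.c⁻¹ * S.t⁻¹)⁻¹ = S.c⁻¹ * (S.t⁻¹ * S.h * S.t) * S.c := by
    simp [mul_assoc]
  rw [e2, hinv]
  have : S.c⁻¹ * S.h⁻¹ * S.c = S.k⁻¹ := by rw [← c_inv_h]; simp [mul_assoc]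
  rw [this, k_eq, _root_.mul_inv_rev, inv_inv, inv_inv]

theorem t_norm {x : G} (hx : x ∈ S.T) : S.t * x * S.t⁻¹ ∈ S.T := by
  have : S.T ≤ S.T.comap (MulAut.conj S.t).toMonoidHom := by
    rw [T, Subgroup.closure_le]
    rintro y (rfl | rfl)
    · show S.t * S.h * S.t⁻¹ ∈ S.T
      rw [S.tht]; exact inv_mem S.h_mem
    · show S.t * S.g * S.t⁻¹ ∈ S.T
      rw [S.t_g]; exact mul_mem S.h_mem S.g_mem
  exact this hx

theorem c_norm {x : G} (hx : x ∈ S.T) : S.c * x * S.c⁻¹ ∈ S.T := by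
  have : S.T ≤ S.T.comap (MulAut.conj S.c).toMonoidHom := by
    rw [T, Subgroup.closure_le]
    rintro y (rfl | rfl)
    · exact S.g_mem
    · show S.c * S.g * S.c⁻¹ ∈ S.T
      have : S.c * S.g * S.c⁻¹ = S.k := by simp [g, k, mul_assoc]
      rw [this]; exact S.k_mem
  exact this hx

theorem c_conj_g : S.c * S.g * S.c⁻¹ = S.k := by simp [g, k, mul_assoc]

theorem c_inv_g : S.c⁻¹ * S.g * S.c = S.h := by simp [g, mul_assoc]

theorem h_pow_X (i : ℕ) (a : F) : S.h ^ i * S.X a * (S.h ^ i)⁻¹ = S.X (((S.ζ : F) ^ 2) ^ i * a) := by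
  induction i generalizing a with
  | zero => simp
  | succ i ih =>
    rw [pow_succ', show S.h * S.h ^ i * S.X a * (S.h * S.h ^ i)⁻¹ = S.h * (S.h ^ i * S.X a * (S.h ^ i)⁻¹) * S.h⁻¹ by
      simp [mul_assoc], ih, S.hX, ← mul_assoc, ← pow_succ']

theorem g_pow_X (i : ℕ) (a : F) :
    S.g ^ i * S.X a * (S.g ^ i)⁻¹ = S.X (((S.ζ⁻¹ : Fˣ) : F) ^ i * a) := by
  induction i generalizing a with
  | zero => simp
  | succ i ih =>
    have h' : ∀ b, S.g * S.X b * S.g⁻¹ = S.X (((S.ζ⁻¹ : Fˣ) : F) * b) := S.gX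
    rw [pow_succ', show S.g * S.g ^ i * S.X a * (S.g * S.g ^ i)⁻¹ = S.g * (S.g ^ i * S.X a * (S.g ^ i)⁻¹) * S.g⁻¹ by
      simp [mul_assoc], ih, h', ← mul_assoc, ← pow_succ']

/-- The torus scales the root group at `(1,2)`. -/
theorem T_X {x : G} (hx : x ∈ S.T) : ∃ r : Fˣ, ∀ a, x * S.X a * x⁻¹ = S.X ((r : F) * a) := by
  induction hx using Subgroup.closure_induction with
  | mem y hy =>
    rcases hy with rfl | rfl
    · exact ⟨S.ζ ^ 2, fun a => by rw [S.hX, Units.val_pow_eq_pow_val]⟩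
    · exact ⟨S.ζ⁻¹, S.gX⟩
  | one => exact ⟨1, fun a => by simp⟩
  | mul y z _ _ hy hz =>
    obtain ⟨r, hr⟩ := hy; obtain ⟨s, hs⟩ := hz
    refine ⟨r * s, fun a => ?_⟩
    rw [show y * z * S.X a * (y * z)⁻¹ = y * (z * S.X a * z⁻¹) * y⁻¹ by simp [mul_assoc], hs, hr,
      Units.val_mul, mul_assoc]
  | inv y _ hy =>
    obtain ⟨r, hr⟩ := hy
    refine ⟨r⁻¹, fun a => ?_⟩
    have := hr (((r⁻¹ : Fˣ) : F) * a)
    rw [← mul_assoc, Units.mul_inv, one_mul] at this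
    rw [← this]; simp [mul_assoc]

theorem T_Y {x : G} (hx : x ∈ S.T) : ∃ r : Fˣ, ∀ a, x * S.Y a * x⁻¹ = S.Y ((r : F) * a) := by
  have hx' : S.c⁻¹ * x * S.c ∈ S.T := by
    have h2 := S.c_norm (S.c_norm hx)
    have e : S.c * (S.c * x * S.c⁻¹) * S.c⁻¹ = (S.c * S.c) * x * (S.c * S.c)⁻¹ := by simp [mul_assoc]
    rw [e, ← c_inv, inv_inv] at h2
    exact h2
  obtain ⟨r, hr⟩ := S.T_X hx'
  refine ⟨r, fun a => ?_⟩
  rw [Y, Y, ← hr]; simp [mul_assoc]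

theorem T_Z {x : G} (hx : x ∈ S.T) : ∃ r : Fˣ, ∀ a, x * S.Z a * x⁻¹ = S.Z ((r : F) * a) := by
  have h1 : S.c * x * S.c⁻¹ ∈ S.T := S.c_norm hx
  have hx' : (S.c * S.c * S.t)⁻¹ * x * (S.c * S.c * S.t) ∈ S.T := by
    have hin : ∀ y ∈ S.T, S.t⁻¹ * y * S.t ∈ S.T := by
      intro y hy
      have : S.T ≤ S.T.comap (MulAut.conj S.t⁻¹).toMonoidHom := by
        rw [T, Subgroup.closure_le]
        rintro z (rfl | rfl)
        · show S.t⁻¹ * S.h * S.t⁻¹⁻¹ ∈ S.T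
          have := congrArg (fun x => S.t⁻¹ * x⁻¹ * S.t) S.tht
          simp [mul_assoc] at this ⊢
          rw [← this]; exact inv_mem S.h_mem
        · show S.t⁻¹ * S.g * S.t⁻¹⁻¹ ∈ S.T
          have h2 : S.t⁻¹ * (S.h * S.g) * S.t = S.g := by rw [← S.t_g]; simp [mul_assoc]
          have h3 : S.t⁻¹ * S.h * S.t = S.h⁻¹ := by
            have := congrArg (fun x => S.t⁻¹ * x⁻¹ * S.t) S.tht
            simpa [mul_assoc] using this.symm
          have h4 : S.t⁻¹ * S.g * S.t = S.h * S.g := by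
            have : S.t⁻¹ * (S.h * S.g) * S.t = (S.t⁻¹ * S.h * S.t) * (S.t⁻¹ * S.g * S.t) := by simp [mul_assoc]
            rw [h2, h3] at this
            rw [eq_inv_mul_iff_mul_eq] at this
            exact this.symm
          rw [inv_inv, h4]; exact mul_mem S.h_mem S.g_mem
      have := this hy
      simpa [mul_assoc] using this
    have e : (S.c * S.c * S.t)⁻¹ * x * (S.c * S.c * S.t) = S.t⁻¹ * (S.c * x * S.c⁻¹) * S.t := by
      rw [← S.c_inv]; simp [mul_assoc]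
    rw [e]; exact hin _ h1
  obtain ⟨r, hr⟩ := S.T_X hx'
  refine ⟨r, fun a => ?_⟩
  rw [Z, Z, ← hr]; simp [mul_assoc]

theorem h_Y (a : F) : S.h * S.Y a * S.h⁻¹ = S.Y (((S.ζ⁻¹ : Fˣ) : F) * a) := by
  have e : S.h * S.Y a * S.h⁻¹ = S.c * ((S.c⁻¹ * S.h * S.c) * S.X a * (S.c⁻¹ * S.h * S.c)⁻¹) * S.c⁻¹ := by
    simp [Y, mul_assoc]
  rw [e, c_inv_h, k_eq, Y]
  congr 2
  have h1 : S.h⁻¹ * S.X a * S.h = S.X ((((S.ζ⁻¹ : Fˣ) : F)) ^ 2 * a) := by
    have := S.hX ((((S.ζ⁻¹ : Fˣ) : F)) ^ 2 * a)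
    rw [← mul_assoc, ← mul_pow, Units.mul_inv, one_pow, one_mul] at this
    rw [← this]; simp [mul_assoc]
  have h2 : ∀ b, S.g⁻¹ * S.X b * S.g = S.X ((S.ζ : F) * b) := fun b => by
    have := S.gX ((S.ζ : F) * b)
    rw [← mul_assoc, Units.inv_mul, one_mul] at this
    rw [← this]; simp [g, mul_assoc]
  calc S.g⁻¹ * S.h⁻¹ * S.X a * (S.g⁻¹ * S.h⁻¹)⁻¹ = S.g⁻¹ * (S.h⁻¹ * S.X a * S.h) * S.g := by simp [mul_assoc]
    _ = _ := by
      rw [h1, h2, ← mul_assoc, pow_two, ← mul_assoc, Units.mul_inv, one_mul]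

theorem g_Y (a : F) : S.g * S.Y a * S.g⁻¹ = S.Y ((S.ζ : F) ^ 2 * a) := by
  rw [Y, Y, ← S.hX]; simp [g, mul_assoc]

theorem t_inv_g : S.t⁻¹ * S.g * S.t = S.h * S.g := by
  have h2 : S.t⁻¹ * (S.h * S.g) * S.t = S.g := by rw [← S.t_g]; simp [mul_assoc]
  have h3 : S.t⁻¹ * S.h * S.t = S.h⁻¹ := by
    have := congrArg (fun x => S.t⁻¹ * x⁻¹ * S.t) S.tht
    simpa [mul_assoc] using this.symm
  have : S.t⁻¹ * (S.h * S.g) * S.t = (S.t⁻¹ * S.h * S.t) * (S.t⁻¹ * S.g * S.t) := by simp [mul_assoc]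
  rw [h2, h3, eq_inv_mul_iff_mul_eq] at this
  exact this.symm

theorem t_inv_k : S.t⁻¹ * S.k * S.t = S.g⁻¹ := by
  rw [k_eq]
  have h3 : S.t⁻¹ * S.h * S.t = S.h⁻¹ := by
    have := congrArg (fun x => S.t⁻¹ * x⁻¹ * S.t) S.tht
    simpa [mul_assoc] using this.symm
  calc S.t⁻¹ * (S.g⁻¹ * S.h⁻¹) * S.t = (S.t⁻¹ * S.g * S.t)⁻¹ * (S.t⁻¹ * S.h * S.t)⁻¹ := by simp [mul_assoc]
    _ = S.g⁻¹ := by rw [S.t_inv_g, h3]; simp [mul_assoc]

theorem h_Z (a : F) : S.h * S.Z a * S.h⁻¹ = S.Z ((S.ζ : F) * a) := by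
  have e : S.h * S.Z a * S.h⁻¹ = S.c * S.c * S.t *
      ((S.t⁻¹ * (S.c * S.h * S.c⁻¹) * S.t) * S.X a * (S.t⁻¹ * (S.c * S.h * S.c⁻¹) * S.t)⁻¹) *
        (S.c * S.c * S.t)⁻¹ := by
    simp only [Z, ← S.c_inv]; simp [mul_assoc]
  rw [e, show S.c * S.h * S.c⁻¹ = S.g from rfl, t_inv_g, Z]
  congr 2
  rw [show S.h * S.g * S.X a * (S.h * S.g)⁻¹ = S.h * (S.g * S.X a * S.g⁻¹) * S.h⁻¹ by simp [mul_assoc],
    show S.g * S.X a * S.g⁻¹ = S.X (((S.ζ⁻¹ : Fˣ) : F) * a) from S.gX a, S.hX, ← mul_assoc, pow_two,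
    mul_assoc (S.ζ : F) (S.ζ : F), Units.mul_inv, mul_one]

theorem g_Z (a : F) : S.g * S.Z a * S.g⁻¹ = S.Z ((S.ζ : F) * a) := by
  have e : S.g * S.Z a * S.g⁻¹ = S.c * S.c * S.t *
      ((S.t⁻¹ * (S.c * S.g * S.c⁻¹) * S.t) * S.X a * (S.t⁻¹ * (S.c * S.g * S.c⁻¹) * S.t)⁻¹) *
        (S.c * S.c * S.t)⁻¹ := by
    simp only [Z, ← S.c_inv]; simp [mul_assoc]
  rw [e, c_conj_g, t_inv_k, Z]
  congr 2
  have := S.gX ((S.ζ : F) * a)
  rw [← mul_assoc, Units.inv_mul, one_mul] at this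
  rw [← this]; simp [g, mul_assoc]

theorem Y_add (a b : F) : S.Y (a + b) = S.Y a * S.Y b := by simp [Y, S.X_add, mul_assoc]

theorem Z_add (a b : F) : S.Z (a + b) = S.Z a * S.Z b := by simp [Z, S.X_add, mul_assoc]

theorem Y_zero : S.Y 0 = 1 := by simp [Y, X_zero]

theorem Z_zero : S.Z 0 = 1 := by simp [Z, X_zero]

/-- `c` is the product of the two reflections. -/
theorem c_eq : S.c = S.t * S.w := by
  rw [w, show S.t * (S.c * S.t * S.c⁻¹) = (S.t * S.c * S.t) * S.c⁻¹ by simp [mul_assoc], tct, c_inv]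
  calc S.c = S.c * (S.c * S.c * S.c) := by rw [S.cube, mul_one]
    _ = S.c * S.c * (S.c * S.c) := by simp [mul_assoc]

theorem braid_w : S.w * S.t * S.w = S.t * S.w * S.t := by
  have hct : S.c * S.t = S.t⁻¹ * S.c⁻¹ := by
    rw [← _root_.mul_inv_rev]
    refine eq_inv_of_mul_eq_one_left ?_
    calc S.c * S.t * (S.c * S.t) = S.t⁻¹ * (S.t * S.c * (S.t * S.c)) * S.t := by simp [mul_assoc]
      _ = 1 := by rw [S.tc]; simp
  have e : S.c⁻¹ * S.t * (S.c * S.t) = S.c := by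
    rw [hct, show S.c⁻¹ * S.t * (S.t⁻¹ * S.c⁻¹) = S.c⁻¹ * S.c⁻¹ by simp [mul_assoc], ← _root_.mul_inv_rev,
      ← S.c_inv, inv_inv]
  have h1 : S.w * S.t * S.w = S.c * S.t := by
    rw [w]
    calc S.c * S.t * S.c⁻¹ * S.t * (S.c * S.t * S.c⁻¹) = S.c * S.t * (S.c⁻¹ * S.t * (S.c * S.t)) * S.c⁻¹ := by
          simp [mul_assoc]
      _ = S.c * S.t := by rw [e]; simp [mul_assoc]
  rw [h1, ← c_eq]

end Frame

end Cfsg.Lib.Linear.ShortPres
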