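import Cfsg.Agent.Lib.Linear.ShortPres.SLThree.Frame

/-!
# Short presentations of `SL₃`: the order of the torus and the rank one cell
-/

set_option autoImplicit false

namespace Cfsg.Lib.Linear.ShortPres

namespace Frame

variable {F : Type*} [Field F] [Fintype F] {G : Type*} [Group G] (S : Frame F G)

theorem zeta_pow_card : (S.ζ : F) ^ (Fintype.card F - 1) = 1 :=
  FiniteField.pow_card_sub_one_eq_one _ S.ζ.ne_zero

theorem zeta_inv_pow_card : ((S.ζ⁻¹ : Fˣ) : F) ^ (Fintype.card F - 1) = 1 :=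
  FiniteField.pow_card_sub_one_eq_one _ S.ζ⁻¹.ne_zero

theorem h_pow_card : S.h ^ (Fintype.card F - 1) = 1 := by
  set E := Fintype.card F - 1
  set y := S.g ^ E
  set z := S.h ^ E
  have hyz : y * z = z * y := S.T_comm (pow_mem S.g_mem E) (pow_mem S.h_mem E)
  have hyt : S.t * y * S.t⁻¹ = z * y := by
    rw [← conj_pow, S.t_g, (show Commute S.h S.g from S.comm).mul_pow]
  have hyu : y * S.u * y⁻¹ = S.u := by
    rw [← S.X_one, S.g_pow_X, S.zeta_inv_pow_card, one_mul]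
  have hzu : z * S.u * z⁻¹ = S.u := by
    rw [← S.X_one, S.h_pow_X, ← pow_mul, mul_comm 2, pow_mul, S.zeta_pow_card, one_pow, one_mul]
  have htz : S.t * z * S.t⁻¹ = z⁻¹ := by rw [← conj_pow, S.tht, inv_pow]
  have hyty : y * S.t * y⁻¹ = z⁻¹ * S.t := by
    have : S.t * y = z * y * S.t := mul_inv_eq_iff_eq_mul.1 hyt
    rw [eq_inv_mul_iff_mul_eq, ← mul_assoc, ← mul_assoc, ← this, mul_inv_cancel_right]
  have hyu' : y * S.u⁻¹ * y⁻¹ = S.u⁻¹ := by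
    have := congrArg (·⁻¹) hyu; simpa [mul_assoc] using this
  have hL : y * (S.t * S.u * S.t⁻¹) * y⁻¹ = S.t * S.u * S.t⁻¹ := by
    calc y * (S.t * S.u * S.t⁻¹) * y⁻¹ = (y * S.t * y⁻¹) * (y * S.u * y⁻¹) * (y * S.t * y⁻¹)⁻¹ := by simp [mul_assoc]
      _ = z⁻¹ * (S.t * S.u * S.t⁻¹) * z := by rw [hyty, hyu]; simp [mul_assoc]
      _ = S.t * (z * S.u * z⁻¹) * S.t⁻¹ := by
        have h1 : S.t * z = z⁻¹ * S.t := mul_inv_eq_iff_eq_mul.1 htz
        have h2 : z⁻¹ * S.t⁻¹ = S.t⁻¹ * z := by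
          have := ((show SemiconjBy S.t z z⁻¹ from h1).inv_right).inv_symm_left
          rw [inv_inv] at this
          exact this.eq.symm
        calc z⁻¹ * (S.t * S.u * S.t⁻¹) * z = (z⁻¹ * S.t) * S.u * (S.t⁻¹ * z) := by simp [mul_assoc]
          _ = _ := by rw [← h1, ← h2]; simp [mul_assoc]
      _ = _ := by rw [hzu]
  rw [S.braid] at hL
  have hR : y * (S.u⁻¹ * S.t * S.u⁻¹) * y⁻¹ = S.u⁻¹ * (z⁻¹ * S.t) * S.u⁻¹ := by
    calc y * (S.u⁻¹ * S.t * S.u⁻¹) * y⁻¹ = (y * S.u⁻¹ * y⁻¹) * (y * S.t * y⁻¹) * (y * S.u⁻¹ * y⁻¹) := by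
          simp [mul_assoc]
      _ = _ := by rw [hyu', hyty]
  rw [hR] at hL
  have := mul_left_cancel (mul_right_cancel hL)
  exact inv_eq_one.1 (mul_eq_right.1 this)

theorem g_pow_card : S.g ^ (Fintype.card F - 1) = 1 := by
  rw [g, conj_pow, S.h_pow_card, mul_one, mul_inv_cancel]

theorem T_repr {x : G} (hx : x ∈ S.T) :
    ∃ i j : Fin (Fintype.card F - 1), x = S.h ^ (i : ℕ) * S.g ^ (j : ℕ) := by
  have hE : 0 < Fintype.card F - 1 := by have := Fintype.one_lt_card (α := F); omega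
  suffices ∃ a b : ℕ, x = S.h ^ a * S.g ^ b by
    obtain ⟨a, b, rfl⟩ := this
    refine ⟨⟨a % _, Nat.mod_lt _ hE⟩, ⟨b % _, Nat.mod_lt _ hE⟩, ?_⟩
    conv_lhs => rw [← Nat.mod_add_div a (Fintype.card F - 1), ← Nat.mod_add_div b (Fintype.card F - 1),
      pow_add, pow_add, pow_mul, pow_mul, S.h_pow_card, S.g_pow_card, one_pow, one_pow, mul_one, mul_one]
  have hc : Commute S.h S.g := S.comm
  induction hx using Subgroup.closure_induction with
  | mem y hy =>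
    rcases hy with rfl | rfl
    · exact ⟨1, 0, by simp⟩
    · exact ⟨0, 1, by simp⟩
  | one => exact ⟨0, 0, by simp⟩
  | mul y z _ _ hy hz =>
    obtain ⟨a, b, rfl⟩ := hy; obtain ⟨d, e, rfl⟩ := hz
    refine ⟨a + d, b + e, ?_⟩
    rw [pow_add, pow_add, mul_assoc, ← mul_assoc (S.g ^ b), ← (hc.pow_pow d b).eq]
    simp [mul_assoc]
  | inv y _ hy =>
    obtain ⟨a, b, rfl⟩ := hy
    refine ⟨(Fintype.card F - 1 - 1) * a, (Fintype.card F - 1 - 1) * b, ?_⟩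
    refine inv_eq_of_mul_eq_one_left ?_
    have e1 : ∀ (x : G) (n : ℕ), x ^ (Fintype.card F - 1) = 1 → x ^ ((Fintype.card F - 1 - 1) * n) * x ^ n = 1 := by
      intro x n hx
      rw [← pow_add, ← Nat.succ_mul, show (Fintype.card F - 1 - 1).succ = Fintype.card F - 1 by omega, pow_mul, hx,
        one_pow]
    rw [mul_assoc, ← mul_assoc (S.g ^ _), ← (hc.pow_pow a _).eq, mul_assoc, e1 S.g b S.g_pow_card, mul_one,
      e1 S.h a S.h_pow_card]

theorem t_sq_mem (p : ℕ) [Fact p.Prime] [CharP F p] (hgen : ∀ x : Fˣ, ∃ i : ℕ, x = S.ζ ^ i) :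
    S.t * S.t ∈ S.T := by
  rcases eq_or_ne p 2 with rfl | hp
  · have huu : S.u * S.u = 1 := by rw [← S.X_one, ← S.X_add, CharTwo.add_self_eq_zero, S.X_zero]
    have hui : S.u⁻¹ = S.u := inv_eq_of_mul_eq_one_left huu
    have h' : (S.t * S.u * S.t⁻¹) * (S.t * S.u * S.t⁻¹) = (S.u * S.t * S.u) * (S.u * S.t * S.u) := by
      rw [S.braid, hui]
    have e1 : (S.t * S.u * S.t⁻¹) * (S.t * S.u * S.t⁻¹) = 1 := by
      rw [show (S.t * S.u * S.t⁻¹) * (S.t * S.u * S.t⁻¹) = S.t * (S.u * S.u) * S.t⁻¹ by simp [mul_assoc], huu,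
        mul_one, mul_inv_cancel]
    have e2 : (S.u * S.t * S.u) * (S.u * S.t * S.u) = S.u * (S.t * S.t) * S.u := by
      rw [show (S.u * S.t * S.u) * (S.u * S.t * S.u) = S.u * S.t * (S.u * S.u) * (S.t * S.u) by simp [mul_assoc],
        huu, mul_one]
      simp [mul_assoc]
    rw [e1, e2] at h'
    have : S.t * S.t = 1 := by
      calc S.t * S.t = S.u⁻¹ * (S.u * (S.t * S.t) * S.u) * S.u⁻¹ := by simp [mul_assoc]
        _ = 1 := by rw [← h', mul_one, ← _root_.mul_inv_rev, huu, inv_one]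
    rw [this]; exact one_mem _
  · obtain ⟨j, hj⟩ := hgen (-1)
    set y := S.g ^ j
    set z := S.h ^ j
    have hm : ((S.ζ⁻¹ : Fˣ) : F) ^ j = -1 := by
      rw [← Units.val_pow_eq_pow_val, inv_pow, ← hj, inv_neg, inv_one]; simp
    have hm2 : ((S.ζ : F) ^ 2) ^ j = 1 := by
      rw [← pow_mul, mul_comm, pow_mul, ← Units.val_pow_eq_pow_val, ← hj]; simp
    have hyt : S.t * y * S.t⁻¹ = z * y := by
      rw [← conj_pow, S.t_g, (show Commute S.h S.g from S.comm).mul_pow]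
    have htz : S.t * z * S.t⁻¹ = z⁻¹ := by rw [← conj_pow, S.tht, inv_pow]
    have hyu : y * S.u * y⁻¹ = S.u⁻¹ := by
      rw [← S.X_one, S.g_pow_X, hm, mul_one, S.X_neg]
    have hyu' : y * S.u⁻¹ * y⁻¹ = S.u := by
      have := congrArg (·⁻¹) hyu; simpa [mul_assoc] using this
    have hzu : z * S.u * z⁻¹ = S.u := by rw [← S.X_one, S.h_pow_X, hm2, one_mul]
    have hzu' : z * S.u⁻¹ * z⁻¹ = S.u⁻¹ := by
      have := congrArg (·⁻¹) hzu; simpa [mul_assoc] using this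
    have hyty : y * S.t * y⁻¹ = z⁻¹ * S.t := by
      have : S.t * y = z * y * S.t := mul_inv_eq_iff_eq_mul.1 hyt
      rw [eq_inv_mul_iff_mul_eq, ← mul_assoc, ← mul_assoc, ← this, mul_inv_cancel_right]
    have h1 : S.t * z = z⁻¹ * S.t := mul_inv_eq_iff_eq_mul.1 htz
    have h2 : z⁻¹ * S.t⁻¹ = S.t⁻¹ * z := by
      have := ((show SemiconjBy S.t z z⁻¹ from h1).inv_right).inv_symm_left
      rw [inv_inv] at this
      exact this.eq.symm
    have hL : y * (S.t * S.u * S.t⁻¹) * y⁻¹ = (S.t * S.u * S.t⁻¹)⁻¹ := by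
      calc y * (S.t * S.u * S.t⁻¹) * y⁻¹ = (y * S.t * y⁻¹) * (y * S.u * y⁻¹) * (y * S.t * y⁻¹)⁻¹ := by simp [mul_assoc]
        _ = (z⁻¹ * S.t) * S.u⁻¹ * (S.t⁻¹ * z) := by rw [hyty, hyu]; simp [mul_assoc]
        _ = S.t * (z * S.u⁻¹ * z⁻¹) * S.t⁻¹ := by rw [← h1, ← h2]; simp [mul_assoc]
        _ = _ := by rw [hzu']; simp [mul_assoc]
    rw [S.braid] at hL
    have hR : y * (S.u⁻¹ * S.t * S.u⁻¹) * y⁻¹ = S.u * (z⁻¹ * S.t) * S.u := by
      calc y * (S.u⁻¹ * S.t * S.u⁻¹) * y⁻¹ = (y * S.u⁻¹ * y⁻¹) * (y * S.t * y⁻¹) * (y * S.u⁻¹ * y⁻¹) := by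
            simp [mul_assoc]
        _ = _ := by rw [hyu', hyty]
    rw [hR] at hL
    have h3 : z⁻¹ * S.t = S.t⁻¹ := by
      have := congrArg (fun x => S.u⁻¹ * x * S.u⁻¹) hL
      simpa [mul_assoc] using this
    have : S.t * S.t = z := by
      have h4 := congrArg (fun x => z * x * S.t) h3
      simpa [mul_assoc] using h4
    rw [this]; exact pow_mem S.h_mem j

/-- The rank one cell. -/
theorem cell (hgen : ∀ x : Fˣ, ∃ i : ℕ, x = S.ζ ^ i) (a : F) (ha : a ≠ 0) :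
    ∃ (b d : F), ∃ e ∈ S.T, S.t * S.X a * S.t⁻¹ = S.X b * e * S.t * S.X d := by
  obtain ⟨i, hi⟩ := hgen (Units.mk0 a ha)⁻¹
  have hia : ((S.ζ⁻¹ : Fˣ) : F) ^ i = a := by
    rw [← Units.val_pow_eq_pow_val, inv_pow, ← hi, inv_inv, Units.val_mk0]
  set y := S.g ^ i
  set z := S.h ^ i
  have hxa : S.X a = y * S.u * y⁻¹ := by rw [← S.X_one, S.g_pow_X, mul_one, hia]
  have hyt : S.t * y * S.t⁻¹ = z * y := by
    rw [← conj_pow, S.t_g, (show Commute S.h S.g from S.comm).mul_pow]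
  have hTy : y ∈ S.T := pow_mem S.g_mem i
  have hTzy : z * y ∈ S.T := mul_mem (pow_mem S.h_mem i) hTy
  obtain ⟨r, hr⟩ := S.T_X hTzy
  refine ⟨(r : F) * -1, (r : F) * -1, z * y * (S.t * (z * y)⁻¹ * S.t⁻¹), mul_mem hTzy (S.t_norm (inv_mem hTzy)), ?_⟩
  rw [← hr, S.X_neg, S.X_one, hxa]
  have e1 : S.t * y = z * y * S.t := mul_inv_eq_iff_eq_mul.1 hyt
  calc S.t * (y * S.u * y⁻¹) * S.t⁻¹ = (S.t * y) * S.u * (S.t⁻¹ * (S.t * y * S.t⁻¹)⁻¹) := by simp [mul_assoc]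
    _ = z * y * (S.t * S.u * S.t⁻¹) * (z * y)⁻¹ := by rw [hyt, e1]; simp [mul_assoc]
    _ = z * y * (S.u⁻¹ * S.t * S.u⁻¹) * (z * y)⁻¹ := by rw [S.braid]
    _ = _ := by simp [mul_assoc]

end Frame

end Cfsg.Lib.Linear.ShortPres
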